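import Groth.Agent.AlgSpc.OpenSubspace
import Groth.Agent.AlgSpLoc.AffineMor
import Groth.Agent.AlgSpLoc.Covers
import Groth.Agent.AlgSpLimit.ClosedLimit
import Groth.Agent.FpqcDescent.Embedding
import Mathlib.AlgebraicGeometry.IdealSheaf.Functorial

/-!
# Closed subspaces from ideal sheaves on an atlas
-/

set_option autoImplicit false
set_option backward.isDefEq.respectTransparency false
set_option linter.style.haveILetI false

universe u

open CategoryTheory CategoryTheory.Limits AlgebraicGeometry Opposite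

namespace Groth.Agent.AlgSpImage

open _root_.AlgSp Groth.Agent.AlgSpc

noncomputable section

variable {S : Scheme.{u}}

/-- A morphism factors through a closed immersion iff the kernel of the latter is contained in its kernel. -/
theorem exists_factor_iff_ker {Z X T : Scheme.{u}} (i : Z ⟶ X) [IsClosedImmersion i] (u : T ⟶ X) :
    (∃ m, m ≫ i = u) ↔ i.ker ≤ u.ker :=
  ⟨fun ⟨m, hm⟩ => hm ▸ Scheme.Hom.le_ker_comp m i,
    fun h => ⟨IsClosedImmersion.lift i u h, IsClosedImmersion.lift_fac _ _ _⟩⟩

instance descendsAlong_iso_fppf : (MorphismProperty.isomorphisms Scheme.{u}).DescendsAlong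
    (@Surjective ⊓ @Flat ⊓ @LocallyOfFinitePresentation : MorphismProperty Scheme.{u}) := by
  apply FpqcDescent.descendsAlong_fppf_of_fpqc

/-- A closed immersion through which an fppf family factors is an isomorphism. -/
theorem isIso_of_fppf_family {X P : Scheme.{u}} (p : P ⟶ X) [IsClosedImmersion p] {ι : Type u} {Z : ι → Scheme.{u}}
    (g : ∀ a, Z a ⟶ X) (hg : ∀ a, Flat (g a) ∧ LocallyOfFinitePresentation (g a))
    (hs : ∀ x, ∃ a, x ∈ Set.range (g a)) (m : ∀ a, Z a ⟶ P) (hm : ∀ a, m a ≫ p = g a) : IsIso p := by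
  have hsu : Surjective (Sigma.desc g) := ⟨fun x => by
    obtain ⟨a, z, hz⟩ := hs x
    exact ⟨Sigma.ι Z a z, by rw [← Scheme.Hom.comp_apply, Sigma.ι_desc]; exact hz⟩⟩
  have hfl : Flat (Sigma.desc g) := IsZariskiLocalAtSource.sigmaDesc fun a => (hg a).1
  have hlp : LocallyOfFinitePresentation (Sigma.desc g) := IsZariskiLocalAtSource.sigmaDesc fun a => (hg a).2
  haveI : Mono p := inferInstance
  have hi : IsIso (pullback.fst (Sigma.desc g) p) := by
    refine ⟨⟨pullback.lift (𝟙 _) (Sigma.desc m) (Sigma.hom_ext _ _ fun a => by simp [hm]), ?_, pullback.lift_fst _ _ _⟩⟩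
    rw [← cancel_mono (pullback.fst (Sigma.desc g) p), Category.assoc, pullback.lift_fst, Category.comp_id, Category.id_comp]
  exact MorphismProperty.of_isPullback_of_descendsAlong
    (Q := @Surjective ⊓ @Flat ⊓ @LocallyOfFinitePresentation) (P := MorphismProperty.isomorphisms Scheme.{u})
    (IsPullback.of_hasPullback (Sigma.desc g) p) ⟨⟨hsu, hfl⟩, hlp⟩ hi

set_option maxHeartbeats 1000000 in
/-- An ideal contained in the kernels of all members of an fppf covering is zero on the scheme. -/
theorem le_ker_of_sieve {U T : Over S} (u : T ⟶ U) (K : U.left.IdealSheafData) {R : Sieve T} (hR : R ∈ J S T)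
    (h : ∀ ⦃W : Over S⦄ (w : W ⟶ T), R w → K ≤ (w ≫ u).left.ker) : K ≤ u.left.ker := by
  rw [J_eq, GrothendieckTopology.mem_over_iff] at hR
  haveI : Scheme.fppfPrecoverage.{u}.HasIsos := by
    haveI : (@Flat ⊓ @LocallyOfFinitePresentation : MorphismProperty Scheme.{u}).ContainsIdentities :=
      ⟨fun _ => ⟨inferInstance, inferInstance⟩⟩
    change (Scheme.precoverage (@Flat ⊓ @LocallyOfFinitePresentation)).HasIsos
    infer_instance
  obtain ⟨P, hP, hle⟩ := (Precoverage.mem_toGrothendieck_iff_of_isStableUnderComposition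
    (J := Scheme.fppfPrecoverage)).1 hR
  obtain ⟨ι, Z, g, rfl⟩ := Presieve.exists_eq_ofArrows P
  obtain ⟨hsurj, hflat⟩ := (Scheme.ofArrows_mem_precoverage_iff _).1 hP
  let p := pullback.fst u.left K.subschemeι
  haveI : IsClosedImmersion p := MorphismProperty.pullback_fst _ _ inferInstance
  have hfac : ∀ a, ∃ m, m ≫ p = g a := fun a => by
    have h1 := hle _ _ (Presieve.ofArrows.mk a)
    rw [Sieve.overEquiv_iff] at h1
    have h2 := h _ h1
    simp only [Over.comp_left, Over.homMk_left] at h2
    rw [← Scheme.IdealSheafData.ker_subschemeι K] at h2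
    obtain ⟨n, hn⟩ := (exists_factor_iff_ker K.subschemeι _).2 h2
    exact ⟨pullback.lift (g a) n hn.symm, pullback.lift_fst _ _ _⟩
  choose m hm using hfac
  choose ax hax using hsurj
  haveI : IsIso p := isIso_of_fppf_family p (fun x => g (ax x)) (fun x => ⟨(hflat (ax x)).1, (hflat (ax x)).2⟩)
    (fun x => ⟨x, hax x⟩) (fun x => m (ax x)) (fun x => hm (ax x))
  rw [← K.ker_subschemeι, ← exists_factor_iff_ker]
  exact ⟨inv p ≫ pullback.snd u.left K.subschemeι, by rw [Category.assoc, ← pullback.condition, IsIso.inv_hom_id_assoc]⟩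

variable {Y : Sp S} {U : Over S} (p : (yon S).obj U ⟶ Y) (K : U.left.IdealSheafData)

/-- The ideal sheaf is compatible with the identifications of the atlas. -/
def Compat : Prop :=
  ∀ ⦃T : Over S⦄ (a b : T ⟶ U), (yon S).map a ≫ p = (yon S).map b ≫ p → K ≤ a.left.ker → K ≤ b.left.ker

/-- All lifts to the atlas kill the ideal. -/
def LiftsIn {T : Over S} (g : (yon S).obj T ⟶ Y) : Prop :=
  ∀ ⦃T' : Over S⦄ (w : T' ⟶ T) (u : T' ⟶ U), (yon S).map u ≫ p = (yon S).map w ≫ g → K ≤ u.left.ker

/-- Sections all whose lifts to the atlas kill the ideal. -/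
def closedSub : Subfunctor Y.obj where
  obj T := {s | LiftsIn p K ((J S).uliftYonedaEquiv.symm s)}
  map {T T'} i s hs := fun T'' w u hu => by
    have h : (J S).uliftYonedaEquiv.symm (Y.obj.map i s) =
        (yon S).map i.unop ≫ (J S).uliftYonedaEquiv.symm s :=
      (GrothendieckTopology.uliftYonedaEquiv_symm_naturality_left _ i.unop Y s).symm
    rw [h, ← Functor.map_comp_assoc] at hu
    exact hs _ u hu

theorem isSheaf_closedSub : Presheaf.IsSheaf (J S) (closedSub p K).toFunctor := by
  have hF : Presieve.IsSheaf (J S) Y.obj := (isSheaf_iff_isSheaf_of_type (J S) Y.obj).1 Y.property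
  rw [isSheaf_iff_isSheaf_of_type, (closedSub p K).isSheaf_iff hF]
  intro T s hs T' w u hu
  refine le_ker_of_sieve u K ((J S).pullback_stable w hs) fun W r hr => ?_
  have h : (J S).uliftYonedaEquiv.symm (Y.obj.map (r ≫ w).op s) =
      (yon S).map (r ≫ w) ≫ (J S).uliftYonedaEquiv.symm s :=
    (GrothendieckTopology.uliftYonedaEquiv_symm_naturality_left _ (r ≫ w) Y s).symm
  refine (show Y.obj.map (r ≫ w).op s ∈ (closedSub p K).obj (op W) from hr) (𝟙 W) (r ≫ u) ?_
  rw [h]
  simp [hu]

/-- The closed subspace. -/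
def closedSheaf : Sp S := ⟨_, isSheaf_closedSub p K⟩

/-- The inclusion. -/
def closedIncl : closedSheaf p K ⟶ Y := ObjectProperty.homMk (closedSub p K).ι

instance : Mono (closedIncl p K) := by
  haveI : Mono (closedSub p K).ι := inferInstance
  exact (sheafToPresheaf (J S) _).mono_of_mono_map (inferInstanceAs (Mono (closedSub p K).ι))

theorem exists_closedIncl_iff {T : Over S} (g : (yon S).obj T ⟶ Y) :
    (∃ g', g' ≫ closedIncl p K = g) ↔ LiftsIn p K g := by
  constructor
  · rintro ⟨g', rfl⟩
    obtain ⟨s, hs⟩ := (J S).uliftYonedaEquiv g'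
    have h : (J S).uliftYonedaEquiv (g' ≫ closedIncl p K) = ((J S).uliftYonedaEquiv g').1 :=
      GrothendieckTopology.uliftYonedaEquiv_comp _ _ _
    have h2 : LiftsIn p K ((J S).uliftYonedaEquiv.symm ((J S).uliftYonedaEquiv g').1) := ((J S).uliftYonedaEquiv g').2
    rwa [← h, Equiv.symm_apply_apply] at h2
  · intro h
    refine ⟨(J S).uliftYonedaEquiv.symm (⟨(J S).uliftYonedaEquiv g, ?_⟩ :
      (closedSub p K).toFunctor.obj (op T)), (J S).uliftYonedaEquiv.injective ?_⟩
    · show LiftsIn p K _
      rw [Equiv.symm_apply_apply]; exact h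
    · rw [GrothendieckTopology.uliftYonedaEquiv_comp, Equiv.apply_symm_apply]
      rfl

variable {p K}

/-- The atlas of the closed subspace is the closed subscheme. -/
theorem exists_chart_closedIncl (hK : Compat p K) :
    ∃ q : (yon S).obj (Over.mk (K.subschemeι ≫ U.hom)) ⟶ closedSheaf p K,
      IsPullback q ((yon S).map (Over.homMk K.subschemeι rfl : Over.mk (K.subschemeι ≫ U.hom) ⟶ U))
        (closedIncl p K) p := by
  let ZU : Over S := Over.mk (K.subschemeι ≫ U.hom)
  let iU : ZU ⟶ U := Over.homMk K.subschemeι rfl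
  have hq₀ : LiftsIn p K ((yon S).map iU ≫ p) := fun T w u h => by
    rw [← Functor.map_comp_assoc] at h
    refine hK (w ≫ iU) u h.symm ?_
    have hle := Scheme.Hom.le_ker_comp w.left K.subschemeι
    rwa [K.ker_subschemeι] at hle
  obtain ⟨q, hq⟩ := (exists_closedIncl_iff p K _).2 hq₀
  have sq := IsPullback.of_hasPullback (closedIncl p K) p
  let k := pullback.lift q ((yon S).map iU) hq
  have hk₁ : k ≫ pullback.fst _ _ = q := pullback.lift_fst _ _ _
  have hk₂ : k ≫ pullback.snd _ _ = (yon S).map iU := pullback.lift_snd _ _ _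
  haveI : Mono iU := (Over.forget S).mono_of_mono_map (inferInstanceAs (Mono K.subschemeι))
  haveI : Mono ((yon S).map iU) := inferInstance
  haveI : Mono (k ≫ pullback.snd (closedIncl p K) p) := hk₂.symm ▸ inferInstance
  haveI : Mono k := mono_of_mono k (pullback.snd (closedIncl p K) p)
  haveI : IsIso k := AlgSpLoc.isIso_of_mono_of_sq k fun R r => by
    let x : R ⟶ U := pre (r ≫ pullback.snd (closedIncl p K) p)
    have hx : (yon S).map x = r ≫ pullback.snd (closedIncl p K) p := map_pre _
    have hker := (exists_closedIncl_iff p K ((yon S).map x ≫ p)).1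
      ⟨r ≫ pullback.fst _ _, by rw [hx, Category.assoc, Category.assoc, pullback.condition]⟩ (𝟙 R) x (by simp)
    obtain ⟨m, hm⟩ := (exists_factor_iff_ker K.subschemeι x.left).2 (by rw [K.ker_subschemeι]; exact hker)
    let r' : R ⟶ ZU := Over.homMk m (by change m ≫ K.subschemeι ≫ U.hom = R.hom; rw [reassoc_of% hm]; exact Over.w _)
    have hr' : r' ≫ iU = x := by ext : 1; exact hm
    refine ⟨R, 𝟙 R, (yon S).map r', (inferInstance : Flat (𝟙 R.left)), (inferInstance : Surjective (𝟙 R.left)),
      (inferInstance : LocallyOfFinitePresentation (𝟙 R.left)), ?_⟩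
    rw [CategoryTheory.Functor.map_id, Category.id_comp]
    have h2 : ((yon S).map r' ≫ k) ≫ pullback.snd _ _ = r ≫ pullback.snd _ _ := by
      rw [Category.assoc, hk₂, ← Functor.map_comp, hr', hx]
    refine pullback.hom_ext ((cancel_mono (closedIncl p K)).1 ?_) h2
    simp only [Category.assoc, pullback.condition]
    simpa only [Category.assoc] using congrArg (· ≫ p) h2
  exact ⟨q, IsPullback.of_iso_pullback ⟨hq⟩ (asIso k) hk₁ hk₂⟩

theorem isAlgSpace_closedSheaf (hY : IsAlgSpace Y) (hp : RepWith @Etale p) (hps : RepWith @Surjective p)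
    (hK : Compat p K) : IsAlgSpace (closedSheaf p K) where
  diag := Functor.relativelyRepresentable.diag_of_map_from_obj fun T g => fun T' g' => by
    obtain ⟨V, fst, snd, sq⟩ := exists_sq (hY.representable_from_yon (g ≫ closedIncl p K)) (g' ≫ closedIncl p K)
    exact ⟨V, snd, fst, isPullback_of_mono (closedIncl p K) sq⟩
  atlas := by
    obtain ⟨q, sq⟩ := exists_chart_closedIncl hK
    exact ⟨_, q, repWith_of_isPullback sq.flip hp, repWith_of_isPullback sq.flip hps⟩

theorem repWith_closedIncl (hY : IsAlgSpace Y) (hp : RepWith @Etale p) (hps : RepWith @Surjective p)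
    (hK : Compat p K) : RepWith @IsClosedImmersion (closedIncl p K) := by
  obtain ⟨q, sq⟩ := exists_chart_closedIncl hK
  refine AlgSpLoc.repWith_of_tested _ fun Z hZ z => ?_
  obtain ⟨V, k, fst, sqV, -, -, hP⟩ := AlgSpLoc.tested_of_cover (G := @IsClosedImmersion)
    (fun _ _ k hB hk => haveI := hB; haveI : IsClosedImmersion k := hk; haveI := isAffine_of_isAffineHom k; inferInstance)
    (isAlgSpace_closedSheaf hY hp hps hK) hY (AlgSpLoc.isFpqcCover_atlas hY hp hps)
    (f := closedIncl p K) (p := fun _ => _) (q := fun _ => q) (fun _ => sq)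
    (fun _ Z' hZ' l => by
      have hc : RepWith @IsClosedImmersion
          ((yon S).map (Over.homMk K.subschemeι rfl : Over.mk (K.subschemeι ≫ U.hom) ⟶ U)) :=
        (repWith_yon_map_iff _ _).2 (inferInstanceAs (IsClosedImmersion K.subschemeι))
      obtain ⟨V, fst, k, sqV⟩ := exists_sq hc.1 l
      exact ⟨V, k, fst, sqV, hc.2 l fst k sqV⟩) hZ z
  exact ⟨V, k, fst, sqV, hP @IsClosedImmersion le_rfl⟩

end

end Groth.Agent.AlgSpImage
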