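import Groth.Agent.AlgSpImage.Reduced
import Groth.Agent.SchImageLib.Immersion
import Groth.Agent.SchDomLib.Basic
import Groth.Agent.AlgSpLimit.DescendRep

/-!
# Scheme theoretic density and scheme theoretic images of immersions
-/

set_option autoImplicit false
set_option backward.isDefEq.respectTransparency false
set_option linter.style.haveILetI false

universe u

open CategoryTheory CategoryTheory.Limits AlgebraicGeometry Opposite

namespace Groth.Agent.AlgSpImage

open _root_.AlgSp Groth.Agent.AlgSpc

noncomputable section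

variable {S : Scheme.{u}}

/-- A chart exhibiting scheme theoretic density. -/
theorem isSchDense_of_chart {X G : Sp S} (j : G ⟶ X) (hj : RepWith @IsOpenImmersion j) {V P : Over S}
    {φ : (yon S).obj V ⟶ X} (hφ : RepWith @Etale φ) (hφs : RepWith @Surjective φ) {fst : (yon S).obj P ⟶ G}
    {k : P ⟶ V} (sq : IsPullback fst ((yon S).map k) j φ) (h : ∀ O : V.left.Opens, Function.Injective (k.left.app O)) :
    IsSchDense j := by
  haveI : IsOpenImmersion k.left := hj.2 φ fst k sq
  let W := k.left.opensRange
  let e : P ⟶ Over.mk (W.ι ≫ V.hom) := Over.homMk k.left.isoOpensRange.hom (by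
    show k.left.isoOpensRange.hom ≫ W.ι ≫ V.hom = P.hom
    rw [Scheme.Hom.isoOpensRange_hom_ι_assoc, Over.w])
  haveI : IsIso e.left := inferInstanceAs (IsIso k.left.isoOpensRange.hom)
  haveI : IsIso ((Over.forget S).map e) := ‹IsIso e.left›
  haveI : IsIso e := isIso_of_reflects_iso e (Over.forget S)
  have hek : e ≫ Over.homMk W.ι rfl = k := by ext1; exact Scheme.Hom.isoOpensRange_hom_ι _
  refine ⟨hj, V, φ, W, (yon S).map (inv e) ≫ fst, hφ, hφs, ?_, ?_⟩
  · refine sq.of_iso ((yon S).mapIso (asIso e)) (Iso.refl _) (Iso.refl _) (Iso.refl _) (by simp) ?_ (by simp) (by simp)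
    simp only [Iso.refl_hom, Category.comp_id, Functor.mapIso_hom, asIso_hom, ← Functor.map_comp, hek]
  · refine SchDomLib.isSchematicallyDense_of_injective fun O => ?_
    have hc := Scheme.Hom.congr_app (Scheme.Hom.isoOpensRange_hom_ι k.left).symm O
    rw [injective_iff_map_eq_zero]
    intro t ht
    refine (injective_iff_map_eq_zero _).1 (h O) t ?_
    rw [hc]
    rw [Scheme.Hom.comp_app, CommRingCat.comp_apply, CommRingCat.comp_apply, ht, map_zero, map_zero]

/-- A cover of a representable quasi-compact morphism by its chart. -/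
theorem isBCCover_of_isPullback {X Y : Sp S} {f : X ⟶ Y} {U W : Over S} {p : (yon S).obj U ⟶ Y}
    {w : (yon S).obj W ⟶ X} {q : W ⟶ U} (sq : IsPullback w ((yon S).map q) f p) : IsBCCover f p w q :=
  ⟨sq.w, fun T u x hx => ⟨T, 𝟙 T, pre (sq.lift x ((yon S).map u) hx), (inferInstance : Etale (𝟙 T.left)),
    (inferInstance : Surjective (𝟙 T.left)), by simp, (yon S).map_injective (by simp)⟩⟩

/-- Quasi-compact opens: density is the same as the closure being everything. -/
theorem isSchDense_iff {G X : Sp S} (hG : IsAlgSpace G) (hX : IsAlgSpace X) (j : G ⟶ X)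
    (hj : RepWith @IsOpenImmersion j) (hq : IsQuasiCompactMor j) : IsSchDense j ↔ IsSchImage j (𝟙 X) := by
  have hjq : RepWith @QuasiCompact j := (repWith_quasiCompact_iff hj.1).2 hq
  constructor
  · rintro ⟨-, V, φ, W, fst, hφ, hφs, sq, hW⟩
    let k : Over.mk (W.ι ≫ V.hom) ⟶ V := Over.homMk W.ι rfl
    haveI : QuasiCompact k.left := hjq.2 φ fst k sq
    haveI : QuasiCompact W.ι := ‹QuasiCompact k.left›
    haveI := SchDomLib.isSchemeTheoreticallyDominant_opens_ι hW
    refine isSchImage_of_factor_iff hG hX hφ hφs (isBCCover_of_isPullback sq) hX (repWith_iso _)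
      ⟨j, Category.comp_id j⟩ fun {T} u => iff_of_true ⟨_, Category.comp_id _⟩ ?_
    show W.ι.ker ≤ _
    rw [W.ι.ker_eq_bot]
    exact bot_le
  · intro h
    obtain ⟨U, p, hp, hps⟩ := hX.atlas
    obtain ⟨P, fst, k, sq⟩ := exists_sq hj.1 p
    haveI : QuasiCompact k.left := hjq.2 p fst k sq
    haveI : IsSchemeTheoreticallyDominant k.left := ⟨by
      have := (factor_iff_ker hG hX hq hX h (isBCCover_of_isPullback sq)
        (fun U' p' hp' R g' g sR => by
          haveI : Etale g.left := (repWith_of_isPullback sR hp |> (repWith_yon_map_iff _ g).1)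
          infer_instance) (𝟙 U)).1 ⟨_, Category.comp_id _⟩
      rw [show (𝟙 U : U ⟶ U).left.ker = ⊥ from Scheme.Hom.ker_eq_bot_of_isIso _] at this
      exact le_bot_iff.1 this⟩
    exact isSchDense_of_chart j hj hp hps sq (fun O => k.left.app_injective O)

set_option maxHeartbeats 600000 in
/-- An immersion is a dense open immersion into its scheme theoretic image. -/
theorem immersion_into_schImage {Z X Zb : Sp S} (hZ : IsAlgSpace Z) (hX : IsAlgSpace X) (hZb : IsAlgSpace Zb)
    (h : Z ⟶ X) (hh : RepWith @IsImmersion h) (hq : IsQuasiCompactMor h ∨ IsReducedSp Z) (c : Zb ⟶ X)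
    (hc : IsSchImage h c) (h' : Z ⟶ Zb) (fac : h' ≫ c = h) :
    RepWith @IsOpenImmersion h' ∧ IsSchDense h' ∧ Dense (Set.range (Points.map h')) := by
  obtain ⟨U, p, hp, hps⟩ := hX.atlas
  obtain ⟨V, a, g, sq⟩ := exists_sq hh.1 p
  haveI : IsImmersion g.left := hh.2 p a g sq
  obtain ⟨P, b, ι, sc⟩ := exists_sq hc.1.1 p
  haveI : IsClosedImmersion ι.left := hc.1.2 p b ι sc
  haveI := AlgSpLimit.mono_closed hc.1
  let k : V ⟶ P := pre (sc.lift (a ≫ h') ((yon S).map g) (by rw [Category.assoc, fac]; exact sq.w))
  have hk₁ : (yon S).map k ≫ b = a ≫ h' := by simp [k]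
  have hk₂ : k ≫ ι = g := (yon S).map_injective (by simp [k])
  have hle : ι.left.ker ≤ g.left.ker := by
    rw [← hk₂, Over.comp_left]; exact Scheme.Hom.le_ker_comp _ _
  obtain ⟨hker, hsupp, heq⟩ : (∀ O : U.left.affineOpens, g.left.ker.ideal O = RingHom.ker (g.left.app O).hom) ∧
      (g.left.ker.support : Set U.left) = closure (Set.range g.left) ∧ ι.left.ker = g.left.ker := by
    rcases hq with hq | hr
    · haveI : QuasiCompact g.left := ((repWith_quasiCompact_iff hh.1).2 hq).2 p a g sq
      refine ⟨fun O => Scheme.Hom.ker_apply _ O, Scheme.Hom.support_ker _, le_antisymm hle ?_⟩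
      refine (factor_iff_ker hZ hX hq hZb hc (isBCCover_of_isPullback sq)
        (fun U' p' hp' R g' g sR => by
          haveI : Etale g.left := (repWith_of_isPullback sR hp |> (repWith_yon_map_iff _ g).1)
          infer_instance) ι).1 ⟨b, sc.w⟩
    · haveI : IsReduced V.left := AlgSpLimit.isReduced_chart hZ hr (repWith_of_isPullback sq.flip hp)
      have hred := isRedInduced_schImage hX hr hZb hc
      haveI : IsReduced P.left := AlgSpLimit.isReduced_chart hZb hred.2.2 (repWith_of_isPullback sc.flip hp)
      refine ⟨fun O => SchImageLib.ker_ideal_eq _ O, SchImageLib.support_ker_eq _, ?_⟩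
      rw [SchImageLib.ker_eq_vanishingIdeal g.left, SchImageLib.ker_eq_vanishingIdeal ι.left]
      congr 1
      ext1
      show closure (Set.range ι.left) = closure (Set.range g.left)
      refine le_antisymm (closure_minimal ?_ isClosed_closure) (closure_mono ?_)
      · rintro _ ⟨y, rfl⟩
        have hy : Points.ofPt p (ι.left y) ∈ closure (Set.range (Points.map h)) := by
          rw [← hred.2.1]; exact ⟨_, map_ofPt_sq sc.w y⟩
        have := (isOpenMap_ofPt hp).preimage_closure_subset_closure_preimage (show ι.left y ∈ Points.ofPt p ⁻¹' _ from hy)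
        refine closure_mono ?_ this
        rintro u ⟨z, hz⟩
        obtain ⟨v, -, hv⟩ := exists_point_of_isPullback sq z (Points.ofScheme U u)
          (by rw [← Points.ofPt_eq_map_ofScheme]; exact hz)
        exact mem_range_of_map_eq g v u hv
      · rintro _ ⟨v, rfl⟩
        exact ⟨k.left v, by rw [← Scheme.Hom.comp_apply, ← Over.comp_left, hk₂]⟩
  -- identify the chart with the scheme image
  haveI : IsIso (IsClosedImmersion.lift g.left.imageι ι.left (by rw [Scheme.IdealSheafData.ker_subschemeι, heq])) :=
    IsClosedImmersion.isIso_lift _ _ (by rw [Scheme.IdealSheafData.ker_subschemeι, heq])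
  let e := IsClosedImmersion.lift g.left.imageι ι.left (by rw [Scheme.IdealSheafData.ker_subschemeι, heq])
  have hke : k.left ≫ e = g.left.toImage := by
    rw [← cancel_mono g.left.imageι, Category.assoc, IsClosedImmersion.lift_fac, g.left.toImage_imageι, ← Over.comp_left, hk₂]
  haveI := SchImageLib.isOpenImmersion_toImage g.left hker
  have hkeq : k.left = g.left.toImage ≫ inv e := by rw [← hke, Category.assoc, IsIso.hom_inv_id, Category.comp_id]
  have hkI : IsOpenImmersion k.left := by rw [hkeq]; infer_instance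
  have sk : IsPullback a ((yon S).map k) h' b := by
    refine IsPullback.of_bot ?_ hk₁.symm sc
    rw [← Functor.map_comp, hk₂, fac]; exact sq
  have hbE : RepWith @Etale b := repWith_of_isPullback sc.flip hp
  have hbS : RepWith @Surjective b := repWith_of_isPullback sc.flip hps
  have hrep : Representable h' := Groth.Agent.AlgSpDesc.representable_of_comp_diagonal h' c (fac.symm ▸ hh.1)
    (repWith_iso (P := MorphismProperty.isomorphisms Scheme.{u}) _).1
  haveI : (@IsOpenImmersion : MorphismProperty Scheme.{u}).DescendsAlong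
      (@Surjective ⊓ @Flat ⊓ @LocallyOfFinitePresentation : MorphismProperty Scheme.{u}) := by
    apply FpqcDescent.descendsAlong_fppf_of_fpqc
  have h₁ : RepWith @IsOpenImmersion h' := AlgSpLimit.repWith_of_etale_cover hrep sk hbE hbS hkI
  refine ⟨h₁, isSchDense_of_chart h' h₁ hbE hbS sk fun O => ?_, ?_⟩
  · rw [injective_iff_map_eq_zero]
    intro t ht
    rw [Scheme.Hom.congr_app hkeq O] at ht
    simp only [Scheme.Hom.comp_app, CommRingCat.comp_apply] at ht
    refine (injective_iff_map_eq_zero _).1 (ConcreteCategory.bijective_of_isIso ((inv e).app O)).1 _ ?_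
    refine (injective_iff_map_eq_zero _).1 (SchImageLib.toImage_app_injective g.left hker _) _ ?_
    exact (map_eq_zero_iff _ (ConcreteCategory.bijective_of_isIso (V.left.presheaf.map _)).1).1 ht
  · have hd : DenseRange k.left := by
      rw [hkeq]
      exact (inv e).surjective.denseRange.comp (SchImageLib.denseRange_toImage g.left hsupp) (inv e).continuous
    have h2 : DenseRange (Points.ofPt b ∘ k.left) :=
      (surjective_ofPt hbS).denseRange.comp hd (Points.continuous_ofPt b)
    refine h2.mono ?_
    rintro _ ⟨v, rfl⟩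
    exact ⟨Points.ofPt a v, map_ofPt_sq sk.w v⟩

end

end Groth.Agent.AlgSpImage
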