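import Groth.Agent.AlgSpImage.QC
import Groth.Agent.AlgSpFormal.Mono
import Groth.Agent.AlgSpc.EtLocInst
import Groth.Agent.AlgSpc.SepProper

/-!
# Scheme theoretic images: existence, flat base change, density
-/

set_option autoImplicit false
set_option backward.isDefEq.respectTransparency false
set_option linter.style.haveILetI false

universe u

open CategoryTheory CategoryTheory.Limits AlgebraicGeometry Opposite

namespace Groth.Agent.AlgSpImage

open _root_.AlgSp Groth.Agent.AlgSpc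

noncomputable section

variable {S : Scheme.{u}} {X Y Z : Sp S} {f : X ⟶ Y} {i : Z ⟶ Y}

/-- Every morphism has a scheme theoretic image. -/
theorem exists_schImage (hX : IsAlgSpace X) (hY : IsAlgSpace Y) (f : X ⟶ Y) :
    ∃ (Z : Sp S) (i : Z ⟶ Y), IsAlgSpace Z ∧ IsSchImage f i := by
  obtain ⟨U, p, hp, hps⟩ := hY.atlas
  exact ⟨_, closedIncl p (maxIdeal f p), isAlgSpace_closedSheaf hY hp hps (compat_maxIdeal f p),
    isSchImage_closedIncl hX hY hp hps (compat_maxIdeal f p) (facCond_maxIdeal f p) fun K h₁ h₂ => le_sSup ⟨h₁, h₂⟩⟩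

/-- Scheme theoretic images of quasi-compact morphisms commute with flat base change. -/
theorem isSchImage_flat_bc (hX : IsAlgSpace X) (hY : IsAlgSpace Y) (hq : IsQuasiCompactMor f) (hZ : IsAlgSpace Z)
    (hi : IsSchImage f i) {Y' X' Z' : Sp S} (hY' : IsAlgSpace Y') (hX' : IsAlgSpace X') (hZ' : IsAlgSpace Z')
    {h : Y' ⟶ Y} (hh : LocP @Flat h) {f₁ : X' ⟶ X} {f' : X' ⟶ Y'} (sqX : IsPullback f₁ f' f h)
    {i₁ : Z' ⟶ Z} {i' : Z' ⟶ Y'} (sqZ : IsPullback i₁ i' i h) : IsSchImage f' i' := by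
  obtain ⟨U', W', p', w', q', hp', hps', hqc, hc⟩ := exists_qc_cover hX' hY' (isQuasiCompactMor_base_change sqX hq)
  haveI := hqc
  have hc' : IsBCCover f (p' ≫ h) (w' ≫ f₁) q' :=
    ⟨by rw [Category.assoc, sqX.w, ← Category.assoc, hc.comm, Category.assoc], fun T u x hx => by
      obtain ⟨T', t, z, ht, hts, hzw, hzq⟩ := hc.lifts u (sqX.lift x ((yon S).map u ≫ p') (by rw [Category.assoc]; exact hx))
        (sqX.lift_snd _ _ _)
      exact ⟨T', t, z, ht, hts, by rw [← Category.assoc, hzw, Category.assoc, sqX.lift_fst], hzq⟩⟩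
  have hhp : LocP @Flat (p' ≫ h) := locP_comp (IsAlgSpace.yon_obj U') hY' hY
    (locP_of_repWith (fun e f he hf => EtLoc.precomp e f he hf)
      (repWith_mono (Q := @Flat) (fun _ _ k (hk : Etale k) => inferInstance) hp')) hh
  have hhr := AlgSpFormal.repWith_of_locP (IsAlgSpace.yon_obj U') hY (hY.representable_from_yon (p' ≫ h)) hhp
  obtain ⟨hi₀, ⟨f'', hf''⟩, -⟩ := id hi
  refine isSchImage_of_factor_iff hX' hY' hp' hps' hc hZ' (repWith_of_isPullback sqZ hi₀)
    ⟨sqZ.lift (f₁ ≫ f'') f' (by rw [Category.assoc, hf'', sqX.w]), sqZ.lift_snd _ _ _⟩ fun {T} u => ?_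
  rw [← factor_iff_ker hX hY hq hZ hi hc' (fun U p hp R g' g sR => hhr.2 p _ g sR) u]
  constructor
  · rintro ⟨m, hm⟩
    exact ⟨m ≫ i₁, by rw [Category.assoc, sqZ.w, ← Category.assoc, hm, Category.assoc]⟩
  · rintro ⟨m, hm⟩
    exact ⟨sqZ.lift m ((yon S).map u ≫ p') (by rw [hm, Category.assoc]), sqZ.lift_snd _ _ _⟩

theorem mem_range_of_map_eq {V U : Over S} (c : V ⟶ U) (x : Points ((yon S).obj V)) (y : U.left)
    (h : Points.map ((yon S).map c) x = Points.ofScheme U y) : y ∈ Set.range c.left := by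
  obtain ⟨v', rfl⟩ := (Points.schemeHomeo V).surjective x
  exact ⟨v', (Points.schemeHomeo U).injective ((Points.map_yon_map_apply c v').symm.trans h)⟩

/-- The image of a quasi-compact morphism is dense in its scheme theoretic image. -/
theorem range_subset_closure (hX : IsAlgSpace X) (hY : IsAlgSpace Y) (hq : IsQuasiCompactMor f) (hZ : IsAlgSpace Z)
    (hi : IsSchImage f i) : Set.range (Points.map i) ⊆ closure (Set.range (Points.map f)) := by
  obtain ⟨U, W, p, w, q, hp, hps, hqc, h⟩ := exists_qc_cover hX hY hq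
  haveI := hqc
  obtain ⟨qZ, sZ⟩ := exists_chart_schImage hX hY hp hps hZ hi
  rintro _ ⟨z, rfl⟩
  obtain ⟨y, hy⟩ := surjective_ofPt hps (Points.map i z)
  obtain ⟨v, -, hv⟩ := exists_point_of_isPullback sZ z (Points.ofScheme U y)
    (by rw [← Points.ofPt_eq_map_ofScheme]; exact hy.symm)
  have hy' : y ∈ Set.range (maxIdeal f p).subschemeι :=
    mem_range_of_map_eq (Over.homMk (maxIdeal f p).subschemeι rfl :
      Over.mk ((maxIdeal f p).subschemeι ≫ U.hom) ⟶ U) v y hv
  rw [Scheme.IdealSheafData.range_subschemeι, maxIdeal_eq_ker hY hp h, Scheme.Hom.support_ker] at hy'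
  rw [← hy]
  refine map_mem_closure (Points.continuous_ofPt p) hy' ?_
  rintro _ ⟨a, rfl⟩
  exact ⟨Points.ofPt w a, map_ofPt_sq h.comm a⟩

end

end Groth.Agent.AlgSpImage
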