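import Groth.Prelude.Def_AlgSpModX
import Groth.Agent.AlgSpImage.Main
import Groth.Agent.AlgSpImage.Dense
import Groth.Agent.AlgSpc.LocP
import Groth.Agent.FpqcDescent.IdealComap

/-!
# The ideal sheaf of a scheme theoretic image
-/

set_option autoImplicit false
set_option backward.isDefEq.respectTransparency false
set_option linter.style.haveILetI false

universe u

open CategoryTheory CategoryTheory.Limits AlgebraicGeometry Opposite

namespace Groth.Agent.AlgSpImage

open _root_.AlgSp Groth.Agent.AlgSpc

noncomputable section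

variable {S : Scheme.{u}} {X Y Z : Sp S} {f : X ⟶ Y} {i : Z ⟶ Y}

/-- Maps factor through a closed subspace according to the ideal of its chart. -/
theorem factor_iff_ker_closed {U V : Over S} {p : (yon S).obj U ⟶ Y} {fst : (yon S).obj V ⟶ Z} {snd : V ⟶ U}
    (sq : IsPullback fst ((yon S).map snd) i p) [IsClosedImmersion snd.left] {T : Over S} (u : T ⟶ U) :
    (∃ m, m ≫ i = (yon S).map u ≫ p) ↔ snd.left.ker ≤ u.left.ker := by
  rw [← exists_factor_iff_ker]
  constructor
  · rintro ⟨g', hg'⟩
    refine ⟨(pre (sq.lift g' ((yon S).map u) hg')).left, ?_⟩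
    rw [← Over.comp_left]
    congr 1
    exact (yon S).map_injective (by rw [Functor.map_comp, map_pre, sq.lift_snd])
  · rintro ⟨m, hm⟩
    let m' : T ⟶ V := Over.homMk m (by rw [← Over.w snd, reassoc_of% hm, Over.w])
    exact ⟨(yon S).map m' ≫ fst, by rw [Category.assoc, sq.w, ← Functor.map_comp_assoc, show m' ≫ snd = u from Over.OverMorphism.ext hm]⟩

/-- The kernels of a base change are compatible with flat maps of charts. -/
theorem ker_bcπ (hf : Representable f) {U P : Over S} {p : (yon S).obj U ⟶ Y} {fst : (yon S).obj P ⟶ X} {snd : P ⟶ U}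
    (sq : IsPullback fst ((yon S).map snd) f p) [QuasiCompact snd.left] (E : EtOver Y) (g : E.obj.left ⟶ U)
    (he : (yon S).map g ≫ p = E.obj.hom) [Flat g.left] :
    (EtOver.bcπ hf E).left.ker = snd.left.ker.comap g.left := by
  have sqE := EtOver.isPullback_bcObj hf E
  let l := sq.lift (EtOver.bcObj hf E).obj.hom ((yon S).map (EtOver.bcπ hf E ≫ g))
    (by rw [Functor.map_comp, Category.assoc, he]; exact sqE.w)
  have h₁ : IsPullback ((yon S).map (pre l)) ((yon S).map (EtOver.bcπ hf E)) ((yon S).map snd) ((yon S).map g) :=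
    IsPullback.of_right (h₁₂ := fst) (h₂₂ := p) (v₁₃ := f)
      (by rw [map_pre, sq.lift_fst, he]; exact sqE)
      (by rw [map_pre, sq.lift_snd, Functor.map_comp]) sq
  exact ker_of_isPullback_flat ((h₁.of_map_of_faithful (yon S)).map (Over.forget S))

theorem quasiCompact_bcπ (hf : Representable f) (hq : IsQuasiCompactMor f) (E : EtOver Y) :
    QuasiCompact (EtOver.bcπ hf E).left :=
  ((repWith_quasiCompact_iff hf).2 hq).2 _ _ _ (EtOver.isPullback_bcObj hf E)

/-- The ideals of a quasi-compact morphism form a quasi-coherent family. -/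
theorem isQCoh_idealOfRep (hf : Representable f) (hq : IsQuasiCompactMor f) : (idealOfRep hf).IsQCoh := by
  intro E E' g hE hE'
  haveI := quasiCompact_bcπ hf hq E
  haveI : Etale g.hom.left.left := etale_of_comp E'.property E.property g.hom.left (EtOver.w g)
  have h := ker_bcπ hf (EtOver.isPullback_bcObj hf E) E' g.hom.left (EtOver.w g)
  have h' := congrArg (fun K : E'.obj.left.left.IdealSheafData => K.ideal ⟨⊤, isAffineOpen_top _⟩) h
  simp only [FpqcDescent.ideal_comap_top, FpqcDescent.ker_ideal_top] at h'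
  exact h'.le

/-- The scheme theoretic image is the closed subspace cut out by the kernel family. -/
theorem isSchImage_iff_isCutOutBy (hX : IsAlgSpace X) (hY : IsAlgSpace Y) (hZ : IsAlgSpace Z) (hf : Representable f)
    (hq : IsQuasiCompactMor f) : IsSchImage f i ↔ IsCutOutBy (idealOfRep hf) i := by
  constructor
  · intro h
    refine ⟨h.1, ?_⟩
    ext1
    funext E hE
    haveI := quasiCompact_bcπ hf hq E
    have sqi := EtOver.isPullback_bcObj h.1.1 E
    haveI : IsClosedImmersion (EtOver.bcπ h.1.1 E).left := h.1.2 _ _ _ sqi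
    have hfl : ∀ ⦃U : Over S⦄ (p : (yon S).obj U ⟶ Y), RepWith @Etale p → ∀ (R : Over S) (g' : R ⟶ E.obj.left) (g : R ⟶ U),
        IsPullback ((yon S).map g') ((yon S).map g) E.obj.hom p → Flat g.left := fun U p hp R g' g sR => by
      haveI : Etale g.left := E.property.2 p ((yon S).map g') g sR
      exact inferInstance
    have hcov := isBCCover_of_isPullback (EtOver.isPullback_bcObj hf E)
    have key : ∀ {T : Over S} (u : T ⟶ E.obj.left), (EtOver.bcπ h.1.1 E).left.ker ≤ u.left.ker ↔
        (EtOver.bcπ hf E).left.ker ≤ u.left.ker := fun u => by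
      rw [← factor_iff_ker_closed sqi u, factor_iff_ker hX hY hq hZ h hcov hfl u]
    have hker : (EtOver.bcπ h.1.1 E).left.ker = (EtOver.bcπ hf E).left.ker := by
      refine le_antisymm ?_ ((key (EtOver.bcπ h.1.1 E)).1 le_rfl)
      let K := (EtOver.bcπ hf E).left.ker
      have := (key (Over.homMk K.subschemeι rfl : Over.mk (K.subschemeι ≫ E.obj.left.hom) ⟶ E.obj.left)).2
      simp only [Over.homMk_left, Scheme.IdealSheafData.ker_subschemeι] at this
      exact this le_rfl
    show RingHom.ker _ = RingHom.ker _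
    rw [← FpqcDescent.ker_ideal_top, ← FpqcDescent.ker_ideal_top, hker]
  · rintro ⟨hi, heq⟩
    haveI := AlgSpLimit.mono_closed hi
    obtain ⟨U, p, hp, hps⟩ := hY.atlas
    obtain ⟨P, w, q, sq⟩ := exists_sq hf p
    haveI : QuasiCompact q.left := ((repWith_quasiCompact_iff hf).2 hq).2 p w q sq
    obtain ⟨V, fst, snd, sqi⟩ := exists_sq hi.1 p
    haveI : IsClosedImmersion snd.left := hi.2 p fst snd sqi
    have hker : snd.left.ker = q.left.ker := by
      have key : ∀ x : U.left, ∃ (O : Scheme.{u}) (j : O ⟶ U.left) (_ : IsOpenImmersion j),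
          x ∈ Set.range j.base ∧ snd.left.ker.comap j = q.left.ker.comap j := by
        intro x
        obtain ⟨O, hO, hx, -⟩ := exists_isAffineOpen_mem_and_subset (show x ∈ (⊤ : U.left.Opens) from trivial)
        refine ⟨O, O.ι, inferInstance, ⟨⟨x, hx⟩, rfl⟩, ?_⟩
        let k : Over.mk (O.ι ≫ U.hom) ⟶ U := Over.homMk O.ι rfl
        haveI : Etale k.left := inferInstanceAs (Etale O.ι)
        let E : EtOver Y := EtOver.mk ((yon S).map k ≫ p) (repWith_comp ((repWith_yon_map_iff _ k).2 inferInstance) hp)
        haveI : IsAffine E.obj.left.left := hO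
        haveI : Flat k.left := inferInstance
        have h₁ := ker_bcπ hi.1 sqi E k rfl
        have h₂ := ker_bcπ hf sq E k rfl
        have h₃ : RingHom.ker (EtOver.bcπ hi.1 E).left.appTop.hom = RingHom.ker (EtOver.bcπ hf E).left.appTop.hom :=
          congrArg (fun I : IdealEt Y => I.ideal E hO) heq
        show Scheme.IdealSheafData.comap _ k.left = Scheme.IdealSheafData.comap _ k.left
        rw [← h₁, ← h₂, Scheme.ker_of_isAffine, Scheme.ker_of_isAffine]
        exact congrArg _ h₃
      refine le_antisymm (ModPairLib.le_of_openCover fun x => ?_) (ModPairLib.le_of_openCover fun x => ?_)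
      · obtain ⟨O, j, hj, hx, e⟩ := key x
        exact ⟨O, j, hj, hx, e.le⟩
      · obtain ⟨O, j, hj, hx, e⟩ := key x
        exact ⟨O, j, hj, hx, e.ge⟩
    refine isSchImage_of_factor_iff hX hY hp hps (isBCCover_of_isPullback sq) hZ hi ?_ fun u => ?_
    · refine exists_factor_of_atlas (repWith_of_isPullback sq.flip hp) (repWith_of_isPullback sq.flip hps) f i ?_
      obtain ⟨m, hm⟩ := (factor_iff_ker_closed sqi q).2 hker.le
      exact ⟨m, hm.trans sq.w.symm⟩
    · rw [factor_iff_ker_closed sqi u, hker]

end

end Groth.Agent.AlgSpImage
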