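import Groth.Agent.AlgSpImage.Closed
import Groth.Agent.AlgSpc.DecentMor
import Mathlib.AlgebraicGeometry.Morphisms.SchemeTheoreticallyDominant
import Groth.Agent.ModPairLib.Coprod
import Groth.Agent.ModPairLib.Closure

/-!
# Scheme theoretic images of morphisms of algebraic spaces
-/

set_option autoImplicit false
set_option backward.isDefEq.respectTransparency false
set_option linter.style.haveILetI false

universe u

open CategoryTheory CategoryTheory.Limits AlgebraicGeometry Opposite

namespace Groth.Agent.AlgSpImage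

open _root_.AlgSp Groth.Agent.AlgSpc

noncomputable section

variable {S : Scheme.{u}}

/-- The kernel commutes with flat base change for quasi-compact morphisms. -/
theorem ker_of_isPullback_flat {A B B' A' : Scheme.{u}} {q : A ⟶ B} [QuasiCompact q] {g : B' ⟶ B} [Flat g]
    {fst : A' ⟶ A} {q' : A' ⟶ B'} (H : IsPullback fst q' q g) : q'.ker = q.ker.comap g := by
  haveI := ModPairLib.std_toImage q
  let l : A' ⟶ pullback q.imageι g := pullback.lift (fst ≫ q.toImage) q' (by rw [Category.assoc, q.toImage_imageι]; exact H.w)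
  have hl₂ : l ≫ pullback.snd q.imageι g = q' := pullback.lift_snd _ _ _
  have s1 : IsPullback fst l q.toImage (pullback.fst q.imageι g) :=
    IsPullback.of_bot (by rw [hl₂, q.toImage_imageι]; exact H) (pullback.lift_fst _ _ _).symm (IsPullback.of_hasPullback q.imageι g)
  haveI : Flat (pullback.fst q.imageι g) := MorphismProperty.pullback_fst _ _ inferInstance
  haveI := IsSchemeTheoreticallyDominant.of_isPullback s1
  rw [← hl₂, Scheme.Hom.ker_comp, l.ker_eq_bot, Scheme.IdealSheafData.map_bot,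
    ← ModPairLib.comap_ker_of_isPullback (IsPullback.of_hasPullback q.imageι g)]
  congr 1
  exact Scheme.IdealSheafData.ker_subschemeι _

/-- A morphism factors through a monomorphism if it does so on an atlas. -/
theorem exists_factor_of_atlas {X Y Z : Sp S} {U : Over S} {a : (yon S).obj U ⟶ X} (ha : RepWith @Etale a)
    (has : RepWith @Surjective a) (f : X ⟶ Y) (i : Z ⟶ Y) [Mono i] (h : ∃ m, m ≫ i = a ≫ f) :
    ∃ g : X ⟶ Z, g ≫ i = f := by
  obtain ⟨m, hm⟩ := h
  obtain ⟨g, hg⟩ := AlgSpLoc.exists_desc_of_atlas ha has m (fun T x y w => by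
    rw [← cancel_mono i, Category.assoc, Category.assoc, hm, reassoc_of% w])
  refine ⟨g, ?_⟩
  haveI := AlgSpLoc.epi_of_repWith ha has
  rw [← cancel_epi a, reassoc_of% hg, hm]

variable {X Y : Sp S} {U : Over S} (f : X ⟶ Y) (p : (yon S).obj U ⟶ Y)

/-- All points of the source kill the ideal. -/
def FacCond (K : U.left.IdealSheafData) : Prop :=
  ∀ ⦃T : Over S⦄ (u : T ⟶ U) (x : (yon S).obj T ⟶ X), x ≫ f = (yon S).map u ≫ p → K ≤ u.left.ker

/-- The largest compatible ideal killed by the source. -/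
def maxIdeal : U.left.IdealSheafData := sSup {K | Compat p K ∧ FacCond f p K}

theorem compat_maxIdeal : Compat p (maxIdeal f p) := fun _ a b hab ha =>
  sSup_le fun K hK => hK.1 a b hab ((le_sSup hK).trans ha)

theorem facCond_maxIdeal : FacCond f p (maxIdeal f p) := fun _ u x h => sSup_le fun K hK => hK.2 u x h

variable {f p}

/-- A morphism factors through the closed subspace iff its points kill the ideal. -/
theorem exists_factor_closedIncl_iff (hX : IsAlgSpace X) (K : U.left.IdealSheafData) :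
    (∃ f', f' ≫ closedIncl p K = f) ↔ FacCond f p K := by
  constructor
  · rintro ⟨f', rfl⟩ T u x h
    exact (exists_closedIncl_iff p K _).1 ⟨x ≫ f', Category.assoc _ _ _⟩ (𝟙 T) u (by simp [← h])
  · intro h
    obtain ⟨W, a, ha, has⟩ := hX.atlas
    exact exists_factor_of_atlas ha has f _ ((exists_closedIncl_iff p K _).2 fun T w u hu =>
      h u ((yon S).map w ≫ a) (by rw [Category.assoc, hu]))

/-- The ideal of a closed subspace on the atlas. -/
theorem exists_ideal_of_closed (hp : RepWith @Etale p) (hps : RepWith @Surjective p) {Z : Sp S} {i : Z ⟶ Y}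
    (hi : RepWith @IsClosedImmersion i) :
    ∃ K : U.left.IdealSheafData, Compat p K ∧
      (∀ {T : Over S} (g : (yon S).obj T ⟶ Y), (∃ g', g' ≫ i = g) ↔ LiftsIn p K g) := by
  obtain ⟨V, fst, snd, sq⟩ := exists_sq hi.1 p
  haveI : IsClosedImmersion snd.left := hi.2 p fst snd sq
  haveI := AlgSpLimit.mono_closed hi
  have key : ∀ {T : Over S} (u : T ⟶ U), (∃ g', g' ≫ i = (yon S).map u ≫ p) ↔ snd.left.ker ≤ u.left.ker := by
    intro T u
    rw [← exists_factor_iff_ker]
    constructor
    · rintro ⟨g', hg'⟩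
      refine ⟨(pre (sq.lift g' ((yon S).map u) hg')).left, ?_⟩
      rw [← Over.comp_left]
      congr 1
      exact (yon S).map_injective (by rw [Functor.map_comp, map_pre, sq.lift_snd])
    · rintro ⟨m, hm⟩
      let m' : T ⟶ V := Over.homMk m (by rw [← Over.w snd, reassoc_of% hm, Over.w])
      have : m' ≫ snd = u := by ext1; exact hm
      exact ⟨(yon S).map m' ≫ fst, by rw [Category.assoc, sq.w, ← Functor.map_comp_assoc, this]⟩
  refine ⟨snd.left.ker, fun T a b hab ha => ?_, fun {T} g => ⟨?_, fun h => ?_⟩⟩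
  · obtain ⟨g', hg'⟩ := (key a).2 ha
    exact (key b).1 ⟨g', hg'.trans hab⟩
  · rintro ⟨g', rfl⟩ T' w u hu
    exact (key u).1 ⟨(yon S).map w ≫ g', by rw [hu, Category.assoc]⟩
  · obtain ⟨T', t, k, sT⟩ := exists_sq hp.1 g
    obtain ⟨m, hm⟩ := (key (pre t)).2 (h k (pre t) (by rw [map_pre]; exact sT.w))
    exact exists_factor_of_atlas (repWith_of_isPullback sT hp) (repWith_of_isPullback sT hps) g i
      ⟨m, by rw [hm, map_pre, sT.w]⟩

/-- The closed subspace of the largest ideal is the scheme theoretic image. -/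
theorem isSchImage_closedIncl (hX : IsAlgSpace X) (hY : IsAlgSpace Y) (hp : RepWith @Etale p)
    (hps : RepWith @Surjective p) {K : U.left.IdealSheafData} (hK : Compat p K) (hf : FacCond f p K)
    (hmax : ∀ K', Compat p K' → FacCond f p K' → K' ≤ K) : IsSchImage f (closedIncl p K) := by
  refine ⟨repWith_closedIncl hY hp hps hK, (exists_factor_closedIncl_iff hX K).2 hf, fun Z' i' _ hi' ⟨f'', hf''⟩ => ?_⟩
  haveI := AlgSpLimit.mono_closed hi'
  obtain ⟨K', hK', hfac⟩ := exists_ideal_of_closed hp hps hi'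
  have hle : K' ≤ K := hmax K' hK' fun T u x h =>
    (hfac _).1 ⟨x ≫ f'', by rw [Category.assoc, hf'']⟩ (𝟙 T) u (by simp [← h])
  obtain ⟨q, sq⟩ := exists_chart_closedIncl hK
  refine exists_factor_of_atlas (repWith_of_isPullback sq.flip hp) (repWith_of_isPullback sq.flip hps) _ i' ?_
  exact (hfac _).2 fun T w u hu =>
    hle.trans ((exists_closedIncl_iff p K _).1 ⟨q, rfl⟩ w u hu)

/-- Two scheme theoretic images are isomorphic. -/
theorem exists_iso_schImage {Z Z' : Sp S} {i : Z ⟶ Y} {i' : Z' ⟶ Y} (hZ : IsAlgSpace Z) (hZ' : IsAlgSpace Z')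
    (h : IsSchImage f i) (h' : IsSchImage f i') : ∃ e : Z ≅ Z', e.hom ≫ i' = i := by
  haveI := AlgSpLimit.mono_closed h.1
  haveI := AlgSpLimit.mono_closed h'.1
  obtain ⟨k, hk⟩ := h.2.2 i' hZ' h'.1 h'.2.1
  obtain ⟨k', hk'⟩ := h'.2.2 i hZ h.1 h.2.1
  exact ⟨⟨k, k', by rw [← cancel_mono i, Category.assoc, hk', hk, Category.id_comp],
    by rw [← cancel_mono i', Category.assoc, hk, hk', Category.id_comp]⟩, hk⟩

/-- The restriction of a scheme theoretic image to the atlas. -/
theorem exists_chart_schImage (hX : IsAlgSpace X) (hY : IsAlgSpace Y) (hp : RepWith @Etale p)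
    (hps : RepWith @Surjective p) {Z : Sp S} {i : Z ⟶ Y} (hZ : IsAlgSpace Z) (h : IsSchImage f i) :
    ∃ q : (yon S).obj (Over.mk ((maxIdeal f p).subschemeι ≫ U.hom)) ⟶ Z,
      IsPullback q ((yon S).map (Over.homMk (maxIdeal f p).subschemeι rfl :
        Over.mk ((maxIdeal f p).subschemeι ≫ U.hom) ⟶ U)) i p := by
  have hK := compat_maxIdeal f p
  obtain ⟨q, sq⟩ := exists_chart_closedIncl hK
  obtain ⟨e, he⟩ := exists_iso_schImage hZ (isAlgSpace_closedSheaf hY hp hps hK) h
    (isSchImage_closedIncl hX hY hp hps hK (facCond_maxIdeal f p) fun K' h₁ h₂ => le_sSup ⟨h₁, h₂⟩)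
  exact ⟨q ≫ e.inv, sq.of_iso (Iso.refl _) e.symm (Iso.refl _) (Iso.refl _) (by simp) (by simp) (by simp [← he])
    (by simp)⟩

end

end Groth.Agent.AlgSpImage
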