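import Groth.Agent.AlgSpImage.Main
import Groth.Agent.AlgSpImage.Dense
import Groth.Agent.AlgSpLimit.ClosedApps
import Groth.Agent.AlgSpLimit.DescendLocP
import Groth.Agent.AlgSpLimit.LimitSpace

/-!
# A closed subspace of a limit is the limit of its scheme theoretic images
-/

set_option autoImplicit false
set_option backward.isDefEq.respectTransparency false
set_option linter.style.haveILetI false

universe u

open CategoryTheory CategoryTheory.Limits AlgebraicGeometry Opposite

namespace Groth.Agent.AlgSpImage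

open _root_.AlgSp Groth.Agent.AlgSpc

noncomputable section

variable {S : Scheme.{u}}

/-- A morphism factors through a closed subspace if all its scheme points do. -/
theorem exists_factor_of_points {F X P : Sp S} {k : X ⟶ P} (hk : RepWith @IsClosedImmersion k) (m : F ⟶ P)
    (h : ∀ (T : Over S) (t : (yon S).obj T ⟶ F), ∃ l, l ≫ k = t ≫ m) : ∃ g, g ≫ k = m := by
  haveI := AlgSpLimit.mono_closed hk
  have hr := repWith_of_isPullback (IsPullback.of_hasPullback k m) hk
  haveI : IsIso (pullback.snd k m) := AlgSpLimit.isIso_of_repWith ⟨hr.1, fun T T' t fst snd sq => by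
    haveI : IsClosedImmersion snd.left := hr.2 t fst snd sq
    obtain ⟨l, hl⟩ := h T t
    let l' : (yon S).obj T ⟶ pullback k m := pullback.lift l t hl
    let e := sq.lift l' (𝟙 _) (by rw [Category.id_comp]; exact pullback.lift_snd _ _ _)
    have he : pre e ≫ snd = 𝟙 _ := (yon S).map_injective (by
      rw [Functor.map_comp, map_pre, sq.lift_snd, CategoryTheory.Functor.map_id])
    haveI : IsSplitEpi snd.left :=
      ⟨⟨⟨(pre e).left, by rw [← Over.comp_left, he]; rfl⟩⟩⟩
    exact isIso_of_mono_of_isSplitEpi snd.left⟩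
  exact ⟨inv (pullback.snd k m) ≫ pullback.fst _ _, by
    rw [Category.assoc, pullback.condition, IsIso.inv_hom_id_assoc]⟩

set_option maxHeartbeats 1600000 in
/-- A closed subspace of a limit is the limit of its scheme theoretic images in the stages. -/
theorem isLimit_schImage_system {I : Type u} [SmallCategory I] [IsCofiltered I] (D : I ⥤ Sp S)
    (hD : ∀ i, IsAlgSpace (D.obj i)) (hDa : ∀ (i j : I) (φ : i ⟶ j), IsAffineMor (D.map φ))
    (hqc : ∀ i, IsQuasiCompactSp (D.obj i)) (c : Cone D) (hc : IsLimit c) (X : Sp S) (hX : IsAlgSpace X)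
    (a : X ⟶ c.pt) (i : I) (W : Sp S) (hW : IsAlgSpace W) (w : W ⟶ D.obj i) (hw : IsFiniteTypeMor w) (b : X ⟶ W)
    (hb : b ≫ w = a ≫ c.π.app i)
    (hci : ∀ (P : Sp S) (fst : P ⟶ c.pt) (snd : P ⟶ W), IsPullback fst snd (c.π.app i) w →
      ∀ k : X ⟶ P, k ≫ fst = a → k ≫ snd = b → RepWith @IsClosedImmersion k)
    (DP : Over i ⥤ Sp S) (π₁ : DP ⟶ Over.forget i ⋙ D) (π₂ : DP ⟶ (Functor.const (Over i)).obj W)
    (hDP : ∀ i' : Over i, IsPullback (π₁.app i') (π₂.app i') (D.map i'.hom) w)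
    (DX : Over i ⥤ Sp S) (hDX : ∀ i', IsAlgSpace (DX.obj i')) (ε : DX ⟶ DP)
    (ξ : (Functor.const (Over i)).obj X ⟶ DX)
    (hξ : ∀ i' : Over i, ξ.app i' ≫ ε.app i' ≫ π₁.app i' = a ≫ c.π.app i'.left ∧ ξ.app i' ≫ ε.app i' ≫ π₂.app i' = b)
    (himg : ∀ i' : Over i, IsSchImage (ξ.app i' ≫ ε.app i') (ε.app i')) :
    Nonempty (IsLimit (Cone.mk X ξ)) := by
  haveI : ∀ j, Mono (ε.app j) := fun j => AlgSpLimit.mono_closed (himg j).1
  obtain ⟨V, pW, hV, hpW, hpWs⟩ := (isQuasiCompactSp_iff_affine hW).1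
    (hw.2 (hD i) (hqc i) (𝟙 _) (𝟙 W) w (IsPullback.id_horiz w))
  obtain ⟨F, φ, ψ, hF, hsq, hφ, hψ⟩ := AlgSpLimit.exists_affine_system D hDa (pW ≫ w) hV
  obtain ⟨C, hC, φ₁, hsq₁, hφ₁⟩ := AlgSpLimit.exists_affine_limit' D c hc (pW ≫ w) F φ ψ hF hsq hφ hψ
  have hψC : ∀ j : Over i, C.π.app j ≫ ψ j = C.π.app (Over.mk (𝟙 i)) ≫ ψ (Over.mk (𝟙 i)) := fun j => by
    rw [← C.w (Over.homMk j.hom (Category.comp_id _) : j ⟶ Over.mk (𝟙 i)), Category.assoc, hψ]
  have sqP := IsPullback.of_hasPullback (c.π.app i) w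
  let k : X ⟶ pullback (c.π.app i) w := pullback.lift a b hb.symm
  have hk₁ : k ≫ pullback.fst _ _ = a := pullback.lift_fst _ _ _
  have hk₂ : k ≫ pullback.snd _ _ = b := pullback.lift_snd _ _ _
  have hk : RepWith @IsClosedImmersion k := hci _ _ _ sqP k hk₁ hk₂
  haveI := AlgSpLimit.mono_closed hk
  let π' : ∀ j : Over i, pullback (c.π.app i) w ⟶ DP.obj j := fun j =>
    (hDP j).lift (pullback.fst _ _ ≫ c.π.app j.left) (pullback.snd _ _) (by
      rw [Category.assoc, c.w]; exact pullback.condition)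
  have hπ₁ : ∀ j, π' j ≫ π₁.app j = pullback.fst _ _ ≫ c.π.app j.left := fun j => (hDP j).lift_fst _ _ _
  have hπ₂ : ∀ j, π' j ≫ π₂.app j = pullback.snd _ _ := fun j => (hDP j).lift_snd _ _ _
  have hkπ : ∀ j, ξ.app j ≫ ε.app j = k ≫ π' j := fun j => by
    apply (hDP j).hom_ext
    · rw [Category.assoc, Category.assoc, (hξ j).1, hπ₁, reassoc_of% hk₁]
    · rw [Category.assoc, Category.assoc, (hξ j).2, hπ₂, hk₂]
  -- charts of the stages
  let α : ∀ j, (yon S).obj (F.obj j) ⟶ DP.obj j := fun j => (hDP j).lift (φ j) ((yon S).map (ψ j) ≫ pW)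
    (by rw [Category.assoc]; exact (hsq j).w)
  have sα : ∀ j, IsPullback (α j) ((yon S).map (ψ j)) (π₂.app j) pW := fun j =>
    IsPullback.of_right (h₁₂ := π₁.app j) (h₂₂ := w) (v₁₃ := D.map j.hom)
      (by simpa [α, (hDP j).lift_fst] using hsq j) ((hDP j).lift_snd _ _ _) (hDP j)
  have hDPa : ∀ j, IsAlgSpace (DP.obj j) := fun j => isAlgSpace_of_isPullback (hD _) (hD i) hW (hDP j)
  -- the chart of the limit
  let a₁ : (yon S).obj C.pt ⟶ pullback (c.π.app i) w :=
    pullback.lift φ₁ ((yon S).map (C.π.app (Over.mk (𝟙 i)) ≫ ψ (Over.mk (𝟙 i))) ≫ pW)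
      (by rw [Category.assoc]; exact hsq₁.w)
  have sa : IsPullback a₁ ((yon S).map (C.π.app (Over.mk (𝟙 i)) ≫ ψ (Over.mk (𝟙 i)))) (pullback.snd (c.π.app i) w) pW :=
    IsPullback.of_right (h₁₂ := pullback.fst _ _) (h₂₂ := w) (v₁₃ := c.π.app i)
      (by simpa [a₁] using hsq₁) (pullback.lift_snd _ _ _) sqP
  have ha₁ : RepWith @Etale a₁ := repWith_of_isPullback sa.flip hpW
  have ha₁s : RepWith @Surjective a₁ := repWith_of_isPullback sa.flip hpWs
  have sC : ∀ j, IsPullback a₁ ((yon S).map (C.π.app j)) (π' j) (α j) := fun j =>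
    IsPullback.of_bot (by rw [← Functor.map_comp, hψC, hπ₂]; exact sa) (by
      apply (hDP j).hom_ext
      · rw [Category.assoc, Category.assoc, hπ₁, (hDP j).lift_fst, ← Category.assoc, pullback.lift_fst]
        exact hφ₁ j
      · rw [Category.assoc, Category.assoc, hπ₂, (hDP j).lift_snd, pullback.lift_snd, ← Functor.map_comp_assoc, hψC j])
      (sα j)
  obtain ⟨C₀, c₀, ι₀, sq₀⟩ := exists_sq hk.1 a₁
  haveI hι₀ : IsClosedImmersion ι₀.left := hk.2 a₁ c₀ ι₀ sq₀
  let D' := F ⋙ Over.forget S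
  haveI hF' : ∀ j, IsAffine (D'.obj j) := hF
  haveI : IsAffine C.pt.left := Scheme.isAffine_of_isLimit ((Over.forget S).mapCone C) hC
  have hbq : IsQuasiCompactMor b := by
    rw [← hk₂]
    exact isQuasiCompactMor_comp (isAlgSpace_of_isPullback (AlgSpLimit.isAlgSpace_limit D hDa c hc hD) (hD i) hW sqP) hW
      (isQuasiCompactMor_of_repWith (repWith_mono (Q := @QuasiCompact)
        (fun _ _ e (_ : IsClosedImmersion e) => inferInstance) hk))
      (isQuasiCompactMor_base_change sqP (isQuasiCompactMor_of_repWith (repWith_mono (Q := @QuasiCompact)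
        (fun _ _ e (_ : IsAffineHom e) => inferInstance)
        ((repWith_affineHom_iff _).1 (AlgSpLimit.isAffineMor_π D hDa c hc i)))))
  have hfq : ∀ j, IsQuasiCompactMor (ξ.app j ≫ ε.app j) := fun j =>
    isQuasiCompactMor_of_comp hX (hDPa j) hW (g := π₂.app j) (by rw [Category.assoc, (hξ j).2]; exact hbq)
      (repWith_mono (Q := @QuasiCompact) (fun _ _ e (_ : IsClosedImmersion e) => inferInstance)
        (isSeparatedMor_of_repWith_affineHom (repWith_of_isPullback (hDP j)
          ((repWith_affineHom_iff _).1 (hDa _ _ j.hom)))))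
  have key : ∀ (T : Over S) (v : T ⟶ C.pt),
      (∀ j, ∃ m, m ≫ ε.app j = (yon S).map v ≫ a₁ ≫ π' j) → ∃ l, l ≫ k = (yon S).map v ≫ a₁ := by
    intro T v hv
    have hle : ι₀.left.ker ≤ v.left.ker := by
      rw [Scheme.ker_of_isAffine ι₀.left, Scheme.ker_of_isAffine v.left]
      refine Scheme.IdealSheafData.le_of_isAffine ?_
      simp only [Scheme.IdealSheafData.ofIdealTop_ideal]
      refine Ideal.map_mono fun s hs => ?_
      obtain ⟨j, s', hs'⟩ := exists_appTop_π_eq_of_isLimit D' ((Over.forget S).mapCone C) hC s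
      haveI : IsAffine (F.obj j).left := hF j
      haveI : QuasiCompact (ι₀ ≫ C.π.app j).left := inferInstanceAs (QuasiCompact (ι₀.left ≫ (C.π.app j).left))
      have hcov := isBCCover_of_isPullback (f := ξ.app j ≫ ε.app j) (p := α j) (w := c₀) (q := ι₀ ≫ C.π.app j) (by
        rw [Functor.map_comp, hkπ]
        exact sq₀.paste_vert (sC j))
      obtain ⟨m, hm⟩ := hv j
      have h0 := (factor_iff_ker hX (hDPa j) (hfq j) (hDX j) (himg j) hcov
        (fun U p hp R g' g sR => by
          haveI : Etale g.left := (repWith_of_isPullback (sα j).flip hpW).2 p ((yon S).map g') g sR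
          exact inferInstance)
        (v ≫ C.π.app j)).1 ⟨m, by rw [hm, ← (sC j).flip.w, Functor.map_comp, Category.assoc]⟩
      rw [Over.comp_left, Over.comp_left, Scheme.ker_of_isAffine, Scheme.ker_of_isAffine] at h0
      have h1 := Scheme.IdealSheafData.le_def.1 h0 ⟨⊤, isAffineOpen_top _⟩
      simp only [Scheme.IdealSheafData.ofIdealTop_ideal] at h1
      have h2 : s' ∈ RingHom.ker (ι₀.left ≫ (C.π.app j).left).appTop.hom := by
        rw [RingHom.mem_ker, Scheme.Hom.comp_appTop, CommRingCat.hom_comp, RingHom.comp_apply]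
        have hs0 : ι₀.left.appTop.hom s = 0 := RingHom.mem_ker.1 hs
        rw [hs'] at hs0
        exact hs0
      have h3 : RingHom.ker (ι₀.left ≫ (C.π.app j).left).appTop.hom ≤
          RingHom.ker (v.left ≫ (C.π.app j).left).appTop.hom := by
        simpa using h1
      have h4 := h3 h2
      rw [RingHom.mem_ker, Scheme.Hom.comp_appTop, CommRingCat.hom_comp, RingHom.comp_apply] at h4
      have h5 : v.left.appTop.hom s = 0 := by
        rw [hs']
        exact h4
      exact RingHom.mem_ker.2 h5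
    let l₀ := IsClosedImmersion.lift ι₀.left v.left hle
    let l₁ : T ⟶ C₀ := Over.homMk l₀ (by rw [← Over.w ι₀, IsClosedImmersion.lift_fac_assoc, Over.w])
    refine ⟨(yon S).map l₁ ≫ c₀, ?_⟩
    rw [Category.assoc, sq₀.w, ← Functor.map_comp_assoc]
    congr 2
    ext1
    exact IsClosedImmersion.lift_fac _ _ hle
  have main : ∀ s : Cone DX, ∃ g : s.pt ⟶ X, ∀ j, g ≫ ξ.app j = s.π.app j := by
    intro s
    let j₀ : Over i := Over.mk (𝟙 i)
    let sc : Cone (Over.forget i ⋙ D) := (Cone.postcompose (ε ≫ π₁)).obj s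
    obtain ⟨g₁, hg₁⟩ : ∃ g₁ : s.pt ⟶ c.pt, ∀ j : Over i, g₁ ≫ c.π.app j.left = s.π.app j ≫ ε.app j ≫ π₁.app j :=
      ⟨((Functor.Initial.isLimitWhiskerEquiv (Over.forget i) c).symm hc).lift sc,
        fun j => ((Functor.Initial.isLimitWhiskerEquiv (Over.forget i) c).symm hc).fac sc j⟩
    let g₂ : s.pt ⟶ W := s.π.app j₀ ≫ ε.app j₀ ≫ π₂.app j₀
    have hg₂ : ∀ j, s.π.app j ≫ ε.app j ≫ π₂.app j = g₂ := fun j => by
      let t : j ⟶ j₀ := Over.homMk j.hom (Category.comp_id _)
      show _ = s.π.app j₀ ≫ _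
      rw [← s.w t, Category.assoc, ε.naturality_assoc, π₂.naturality]
      simp
    let m₀ : s.pt ⟶ pullback (c.π.app i) w := pullback.lift g₁ g₂ (by
      have := (hDP j₀).w
      simp only [j₀, Over.mk_hom, Functor.comp_obj, Over.forget_obj, Over.mk_left, D.map_id, Category.comp_id] at this
      rw [show g₁ ≫ c.π.app i = _ from hg₁ j₀, Category.assoc, Category.assoc, ← this]
      )
    have hm₀ : ∀ j, m₀ ≫ π' j = s.π.app j ≫ ε.app j := fun j => by
      apply (hDP j).hom_ext
      · rw [Category.assoc, Category.assoc, hπ₁, pullback.lift_fst_assoc, hg₁]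
      · rw [Category.assoc, Category.assoc, hπ₂, pullback.lift_snd, hg₂]
    obtain ⟨g, hg⟩ := exists_factor_of_points hk m₀ fun T t => by
      obtain ⟨T', e, ep, sT⟩ := exists_sq ha₁.1 (t ≫ m₀)
      obtain ⟨l, hl⟩ := key T' (pre e) fun j => ⟨(yon S).map ep ≫ t ≫ s.π.app j, by
        rw [Category.assoc, Category.assoc, ← hm₀, map_pre, ← Category.assoc e a₁, sT.w, Category.assoc, Category.assoc]⟩
      exact exists_factor_of_atlas (repWith_of_isPullback sT ha₁) (repWith_of_isPullback sT ha₁s) _ k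
        ⟨l, by rw [hl, map_pre]; exact sT.w⟩
    refine ⟨g, fun j => ?_⟩
    rw [← cancel_mono (ε.app j), Category.assoc, hkπ, ← Category.assoc, hg, hm₀]
  choose g hg using main
  refine ⟨{ lift := g, fac := hg, uniq := fun s m hm => ?_ }⟩
  rw [← cancel_mono k]
  apply sqP.hom_ext
  · rw [Category.assoc, Category.assoc, hk₁]
    refine ((Functor.Initial.isLimitWhiskerEquiv (Over.forget i) c).symm hc).hom_ext fun j => ?_
    show (m ≫ a) ≫ c.π.app j.left = (g s ≫ a) ≫ c.π.app j.left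
    rw [Category.assoc, Category.assoc, ← (hξ j).1, ← Category.assoc, ← Category.assoc (g s), hg s j]
    exact congrArg (· ≫ ε.app j ≫ π₁.app j) (hm j)
  · rw [Category.assoc, Category.assoc, hk₂, ← (hξ (Over.mk (𝟙 i))).2, ← Category.assoc, ← Category.assoc (g s), hg]
    exact congrArg (· ≫ ε.app _ ≫ π₂.app _) (hm _)

end

end Groth.Agent.AlgSpImage
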