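import Groth.Agent.AlgSpImage.Image
import Groth.Agent.AlgSpLoc.Glue

/-!
# The ideal of the scheme theoretic image of a quasi-compact morphism
-/

set_option autoImplicit false
set_option backward.isDefEq.respectTransparency false
set_option linter.style.haveILetI false

universe u

open CategoryTheory CategoryTheory.Limits AlgebraicGeometry Opposite

namespace Groth.Agent.AlgSpImage

open _root_.AlgSp Groth.Agent.AlgSpc
open Groth.Agent.AlgSpLoc (openSub openSubι range_openSubι)

noncomputable section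

variable {S : Scheme.{u}} {X Y : Sp S} {U W : Over S}

/-- `W` covers the base change of `f` to the chart. -/
structure IsBCCover (f : X ⟶ Y) (p : (yon S).obj U ⟶ Y) (w : (yon S).obj W ⟶ X) (q : W ⟶ U) : Prop where
  comm : w ≫ f = (yon S).map q ≫ p
  lifts : ∀ ⦃T : Over S⦄ (u : T ⟶ U) (x : (yon S).obj T ⟶ X), x ≫ f = (yon S).map u ≫ p →
    ∃ (T' : Over S) (t : T' ⟶ T) (z : T' ⟶ W), Etale t.left ∧ Surjective t.left ∧
      (yon S).map z ≫ w = (yon S).map t ≫ x ∧ z ≫ q = t ≫ u

variable {f : X ⟶ Y} {p : (yon S).obj U ⟶ Y} {w : (yon S).obj W ⟶ X} {q : W ⟶ U}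

/-- A flat covering cancels in kernels. -/
theorem le_ker_of_cover {B T' T : Scheme.{u}} (K : B.IdealSheafData) (t : T' ⟶ T) [Etale t] [Surjective t] (u : T ⟶ B)
    (h : K ≤ (t ≫ u).ker) : K ≤ u.ker := by
  rw [← K.ker_subschemeι, ← exists_factor_iff_ker] at h ⊢
  obtain ⟨m, hm⟩ := h
  let p' := pullback.fst u K.subschemeι
  haveI : IsClosedImmersion p' := MorphismProperty.pullback_fst _ _ inferInstance
  haveI : IsIso p' := isIso_of_fppf_family (ι := PUnit.{u + 1}) p' (fun _ => t)
    (fun _ => ⟨inferInstance, inferInstance⟩) (fun x => ⟨⟨⟩, t.surjective x⟩)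
    (fun _ => pullback.lift t m hm.symm) (fun _ => pullback.lift_fst _ _ _)
  exact ⟨inv p' ≫ pullback.snd u K.subschemeι, by rw [Category.assoc, ← pullback.condition, IsIso.inv_hom_id_assoc]⟩

theorem facCond_iff (h : IsBCCover f p w q) (K : U.left.IdealSheafData) : FacCond f p K ↔ K ≤ q.left.ker := by
  refine ⟨fun hK => hK q w h.comm, fun hK T u x hx => ?_⟩
  obtain ⟨T', t, z, ht, hts, -, hz⟩ := h.lifts u x hx
  haveI := ht
  haveI := hts
  refine le_ker_of_cover K t.left u.left ?_
  rw [← Over.comp_left, ← hz, Over.comp_left]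
  exact hK.trans (Scheme.Hom.le_ker_comp _ _)

/-- Covers of base changes pull back. -/
theorem IsBCCover.bc (h : IsBCCover f p w q) {R : Over S} (g : R ⟶ U) :
    IsBCCover f ((yon S).map g ≫ p) ((yon S).map (pullback.fst q g) ≫ w) (pullback.snd q g) := by
  refine ⟨?_, fun T r x hx => ?_⟩
  · rw [Category.assoc, h.comm, ← Functor.map_comp_assoc, ← Functor.map_comp_assoc, pullback.condition]
  · obtain ⟨T', t, z, ht, hts, hzw, hz⟩ := h.lifts (r ≫ g) x (by rw [Functor.map_comp, Category.assoc]; exact hx)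
    refine ⟨T', t, pullback.lift z (t ≫ r) (by rw [Category.assoc, hz]), ht, hts, ?_, pullback.lift_snd _ _ _⟩
    rw [← Functor.map_comp_assoc, pullback.lift_fst, hzw]

/-- The kernel of a quasi-compact cover is compatible with the identifications of the atlas. -/
theorem compat_ker (hY : IsAlgSpace Y) (hp : RepWith @Etale p) (h : IsBCCover f p w q) [QuasiCompact q.left] :
    Compat p q.left.ker := by
  intro T a b hab ha
  obtain ⟨R, fst, pr₂, sR⟩ := exists_sq hp.1 p
  let pr₁ : R ⟶ U := pre fst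
  have hpr : (yon S).map pr₁ ≫ p = (yon S).map pr₂ ≫ p := by rw [map_pre]; exact sR.w
  haveI : Etale pr₂.left := hp.2 p fst pr₂ sR
  haveI : Etale pr₁.left := by
    have s' : IsPullback ((yon S).map pr₂) ((yon S).map pr₁) p p := by rw [map_pre]; exact sR.flip
    exact hp.2 p _ pr₁ s'
  let l : T ⟶ R := (yon S).preimage (sR.lift ((yon S).map a) ((yon S).map b) hab)
  have hl₁ : l ≫ pr₁ = a := (yon S).map_injective (by rw [Functor.map_comp, map_pre, Functor.map_preimage, IsPullback.lift_fst])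
  have hl₂ : l ≫ pr₂ = b := (yon S).map_injective (by simp [l])
  have hker : ∀ (g : R ⟶ U) [Flat g.left], (pullback.snd q g).left.ker = q.left.ker.comap g.left := fun g _ =>
    ker_of_isPullback_flat ((IsPullback.of_hasPullback q g).map (Over.forget S))
  have h₁ := facCond_iff (h.bc pr₁)
  have h₂ := facCond_iff (h.bc pr₂)
  rw [← hpr] at h₂
  have he : q.left.ker.comap pr₁.left = q.left.ker.comap pr₂.left := by
    rw [← hker pr₁, ← hker pr₂]
    exact le_antisymm ((h₂ _).1 ((h₁ _).2 le_rfl)) ((h₁ _).1 ((h₂ _).2 le_rfl))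
  rw [← hl₂, Over.comp_left, Scheme.Hom.ker_comp, Scheme.IdealSheafData.le_map_iff_comap_le, ← he,
    ← Scheme.IdealSheafData.le_map_iff_comap_le, ← Scheme.Hom.ker_comp, ← Over.comp_left, hl₁]
  exact ha

/-- For a quasi-compact cover the ideal of the scheme theoretic image is the kernel. -/
theorem maxIdeal_eq_ker (hY : IsAlgSpace Y) (hp : RepWith @Etale p) (h : IsBCCover f p w q) [QuasiCompact q.left] :
    maxIdeal f p = q.left.ker :=
  le_antisymm ((facCond_iff h _).1 (facCond_maxIdeal f p))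
    (le_sSup ⟨compat_ker hY hp h, (facCond_iff h _).2 le_rfl⟩)

theorem exists_sigma_eq {κ : Type u} (B : κ → Scheme.{u}) (z : (∐ B :)) : ∃ O b, Sigma.ι B O b = z := by
  obtain ⟨b, hb⟩ := (sigmaOpenCover B).covers z
  exact ⟨_, b, hb⟩

theorem sigma_desc_apply {κ : Type u} {B : κ → Scheme.{u}} {Z : Scheme.{u}} (g : ∀ k, B k ⟶ Z) (k : κ) (b : B k) :
    Sigma.desc g (Sigma.ι B k b) = g k b := by
  rw [← Scheme.Hom.comp_apply, Sigma.ι_desc]

/-- Morphisms out of a disjoint union are given on the pieces. -/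
theorem exists_sigma_desc {κ : Type u} {F : Sp S} (B : κ → Over S) (x : ∀ k, (yon S).obj (B k) ⟶ F) :
    ∃ w : (yon S).obj (Over.mk (Sigma.desc fun k => (B k).hom)) ⟶ F, ∀ k, (yon S).map
      (Over.homMk (Sigma.ι (fun k => (B k).left) k) (by simp) : B k ⟶ Over.mk (Sigma.desc fun k => (B k).hom)) ≫ w = x k := by
  refine (AlgSpLoc.existsUnique_glue B _ (fun k => inferInstanceAs (IsOpenImmersion (Sigma.ι (fun k => (B k).left) k)))
    (fun z => ?_) x fun k k' Z a b hab => ?_).exists
  · obtain ⟨O, b, hb⟩ := exists_sigma_eq (fun k => (B k).left) z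
    exact ⟨O, b, hb⟩
  · rcases isEmpty_or_nonempty ↥Z.left with hZ | ⟨⟨z⟩⟩
    · exact AlgSpLoc.hom_ext_of_openCover (κ := PEmpty.{u + 1}) (fun e => e.elim) (fun e => e.elim)
        (fun e => e.elim) (fun t => hZ.elim t) (fun e => e.elim)
    · obtain rfl : k = k' := congrArg Sigma.fst ((sigmaι_eq_iff (fun k => (B k).left) k k' (a.left z) (b.left z)).1
        (by rw [← Scheme.Hom.comp_apply, ← Scheme.Hom.comp_apply]; exact congrArg (fun m : Z ⟶ Over.mk _ => m.left z) hab))
      obtain rfl : a = b := by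
        ext1
        rw [← cancel_mono (Sigma.ι (fun k => (B k).left) k)]
        exact congrArg CommaMorphism.left hab
      rfl

theorem sigma_hom_ext {κ : Type u} {F : Sp S} (B : κ → Over S)
    {y y' : (yon S).obj (Over.mk (Sigma.desc fun k => (B k).hom)) ⟶ F}
    (h : ∀ k, (yon S).map (Over.homMk (Sigma.ι (fun k => (B k).left) k) (by simp) : B k ⟶ Over.mk (Sigma.desc fun k => (B k).hom)) ≫ y =
      (yon S).map (Over.homMk (Sigma.ι (fun k => (B k).left) k) (by simp) : B k ⟶ Over.mk (Sigma.desc fun k => (B k).hom)) ≫ y') :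
    y = y' :=
  AlgSpLoc.hom_ext_of_openCover B _ (fun k => inferInstanceAs (IsOpenImmersion (Sigma.ι (fun k => (B k).left) k)))
    (fun z => by
      obtain ⟨O, b, hb⟩ := exists_sigma_eq (fun k => (B k).left) z
      exact ⟨O, b, hb⟩) h

/-- A quasi-compact morphism has a quasi-compact cover over a suitable atlas. -/
theorem exists_qc_cover (hX : IsAlgSpace X) (hY : IsAlgSpace Y) (hq : IsQuasiCompactMor f) :
    ∃ (U W : Over S) (p : (yon S).obj U ⟶ Y) (w : (yon S).obj W ⟶ X) (q : W ⟶ U),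
      RepWith @Etale p ∧ RepWith @Surjective p ∧ QuasiCompact q.left ∧ IsBCCover f p w q := by
  obtain ⟨U₀, p₀, hp₀, hps₀⟩ := hY.atlas
  let A : U₀.left.affineOpens → Over S := fun O => openSub U₀ O.1
  let j : ∀ O, A O ⟶ U₀ := fun O => openSubι U₀ O.1
  have hc : ∀ O, ∃ (V : Over S) (r : (yon S).obj V ⟶ pullback f ((yon S).map (j O) ≫ p₀)),
      IsAffine V.left ∧ RepWith @Etale r ∧ RepWith @Surjective r := fun O => by
    haveI : IsAffine (A O).left := O.2
    exact (isQuasiCompactSp_iff_affine (isAlgSpace_of_isPullback hX hY (IsAlgSpace.yon_obj (A O))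
      (IsPullback.of_hasPullback f ((yon S).map (j O) ≫ p₀)))).1 (isQuasiCompactSp_pullback hq _)
  choose V r hV hr hrs using hc
  let U : Over S := Over.mk (Sigma.desc fun O => (A O).hom)
  let ιA : ∀ O, A O ⟶ U := fun O => Over.homMk (Sigma.ι (fun O => (A O).left) O) (by simp [U])
  let π : U ⟶ U₀ := Over.homMk (Sigma.desc fun O => (j O).left) (Sigma.hom_ext _ _ fun O => by simp [U])
  let W : Over S := Over.mk (Sigma.desc fun O => (V O).hom)
  let ιV : ∀ O, V O ⟶ W := fun O => Over.homMk (Sigma.ι (fun O => (V O).left) O) (by simp [W])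
  let qO : ∀ O, V O ⟶ A O := fun O => pre (r O ≫ pullback.snd f _)
  let q : W ⟶ U := Over.homMk (Sigma.desc fun O => (qO O).left ≫ Sigma.ι (fun O => (A O).left) O)
    (Sigma.hom_ext _ _ fun O => by simp [U, W])
  have hπ : Etale π.left := IsZariskiLocalAtSource.sigmaDesc fun O => (inferInstance : Etale (j O).left)
  have hπs : Surjective π.left := ⟨fun x => by
    obtain ⟨O, hO, hx, -⟩ := exists_isAffineOpen_mem_and_subset (show x ∈ (⊤ : U₀.left.Opens) from trivial)
    obtain ⟨y, hy⟩ := (range_openSubι U₀ O).ge hx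
    exact ⟨Sigma.ι (fun O => (A O).left) ⟨O, hO⟩ y, (sigma_desc_apply (fun O => (j O).left) ⟨O, hO⟩ y).trans hy⟩⟩
  have hwc : ∀ O, ∃ wO : (yon S).obj (V O) ⟶ X, wO = r O ≫ pullback.fst f _ := fun O => ⟨_, rfl⟩
  choose wO hwO using hwc
  haveI : ∀ O, IsAffine (V O).left := hV
  obtain ⟨w, hw⟩ := exists_sigma_desc (fun O => V O) wO
  have hp : RepWith @Etale ((yon S).map π ≫ p₀) := repWith_comp ((repWith_yon_map_iff _ π).2 hπ) hp₀
  have hps : RepWith @Surjective ((yon S).map π ≫ p₀) := repWith_comp ((repWith_yon_map_iff _ π).2 hπs) hps₀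
  have hιπ : ∀ O, ιA O ≫ π = j O := fun O => by ext1; simp [ιA, π]
  have hιq : ∀ O, ιV O ≫ q = qO O ≫ ιA O := fun O => by ext1; simp [ιA, ιV, q]
  have hqc : QuasiCompact q.left := by
    refine IsZariskiLocalAtTarget.of_openCover (P := @QuasiCompact) (sigmaOpenCover fun O => (A O).left) fun O => ?_
    show QuasiCompact (pullback.snd q.left (Sigma.ι (fun O => (A O).left) O))
    haveI : IsAffine (A O).left := O.2
    refine (quasiCompact_iff_compactSpace _).2 ?_
    have hr : Set.range (pullback.fst q.left (Sigma.ι (fun O => (A O).left) O)) = Set.range (Sigma.ι (fun O => (V O).left) O) := by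
      rw [Scheme.Pullback.range_fst]
      ext z
      constructor
      · rintro ⟨a, ha⟩
        obtain ⟨O', v, rfl⟩ := exists_sigma_eq (fun O => (V O).left) z
        have h' : q.left (Sigma.ι (fun O => (V O).left) O' v) = Sigma.ι (fun O => (A O).left) O' ((qO O').left v) := by
          exact (sigma_desc_apply (fun O => (qO O).left ≫ Sigma.ι (fun O => (A O).left) O) O' v).trans (Scheme.Hom.comp_apply _ _ _)
        rw [h'] at ha
        obtain rfl : O = O' := congrArg Sigma.fst ((sigmaι_eq_iff (fun O => (A O).left) _ _ _ _).1 ha)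
        exact ⟨v, rfl⟩
      · rintro ⟨v, rfl⟩
        exact ⟨(qO O).left v, ((sigma_desc_apply (fun O => (qO O).left ≫ Sigma.ι (fun O => (A O).left) O) O v).trans (Scheme.Hom.comp_apply _ _ _)).symm⟩
    have hc : IsCompact (Set.range (pullback.fst q.left (Sigma.ι (fun O => (A O).left) O))) := by
      rw [hr]; exact isCompact_range (Sigma.ι (fun O => (V O).left) O).continuous
    rw [← Set.image_univ] at hc
    exact ⟨(pullback.fst q.left (Sigma.ι (fun O => (A O).left) O)).isOpenEmbedding.isEmbedding.isCompact_iff.2 hc⟩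
  refine ⟨U, W, (yon S).map π ≫ p₀, w, q, hp, hps, hqc, ?_, fun T u x hx => ?_⟩
  · refine sigma_hom_ext (fun O => V O) fun O => ?_
    rw [reassoc_of% (hw O), hwO, Category.assoc, pullback.condition, ← Functor.map_comp_assoc, ← Functor.map_comp_assoc,
      hιq, Category.assoc, hιπ, Functor.map_comp_assoc, map_pre, Category.assoc]
  · let TO : U₀.left.affineOpens → Over S := fun O => openSub T (u.left ⁻¹ᵁ (Sigma.ι (fun O => (A O).left) O).opensRange)
    let i : ∀ O, TO O ⟶ T := fun O => openSubι T _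
    have hl : ∀ O, ∃ l : TO O ⟶ A O, l ≫ ιA O = i O ≫ u := fun O => by
      have hr : Set.range ((i O).left ≫ u.left) ⊆ Set.range (Sigma.ι (fun O => (A O).left) O) := by
        rintro _ ⟨y, rfl⟩
        exact y.2
      haveI : IsOpenImmersion (ιA O).left := inferInstanceAs (IsOpenImmersion (Sigma.ι (fun O => (A O).left) O))
      refine ⟨Over.homMk (IsOpenImmersion.lift (ιA O).left _ hr) ?_, ?_⟩
      · rw [← Over.w (ιA O), IsOpenImmersion.lift_fac_assoc, Category.assoc, Over.w]
        exact Over.w (i O)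
      · ext1; exact IsOpenImmersion.lift_fac _ _ _
    choose l hl using hl
    have hx' : ∀ O, ((yon S).map (i O) ≫ x) ≫ f = (yon S).map (l O) ≫ (yon S).map (j O) ≫ p₀ := fun O => by
      rw [Category.assoc, hx, ← hιπ, ← Functor.map_comp_assoc, ← Functor.map_comp_assoc, ← Functor.map_comp_assoc,
        reassoc_of% (hl O)]
      simp only [Category.assoc]
    choose T' z t sq using fun O => exists_sq (hr O).1 (pullback.lift _ _ (hx' O))
    have ht : ∀ O, Etale (t O).left := fun O => (hr O).2 _ _ _ (sq O)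
    have hts : ∀ O, Surjective (t O).left := fun O => (hrs O).2 _ _ _ (sq O)
    refine ⟨Over.mk (Sigma.desc fun O => (T' O).hom),
      Over.homMk (Sigma.desc fun O => (t O ≫ i O).left) (Sigma.hom_ext _ _ fun O => by simp),
      Over.homMk (Sigma.desc fun O => (pre (z O) ≫ ιV O).left) (Sigma.hom_ext _ _ fun O => by simp), ?_, ⟨fun y => ?_⟩, ?_, ?_⟩
    · exact IsZariskiLocalAtSource.sigmaDesc fun O => (by
        haveI := ht O
        rw [Over.comp_left]; infer_instance : Etale (t O ≫ i O).left)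
    · obtain ⟨O, a, ha⟩ := exists_sigma_eq (fun O => (A O).left) (u.left y)
      obtain ⟨b, hb⟩ := (range_openSubι T (u.left ⁻¹ᵁ (Sigma.ι (fun O => (A O).left) O).opensRange)).ge
        (show u.left y ∈ Set.range (Sigma.ι (fun O => (A O).left) O) from ⟨a, ha⟩)
      obtain ⟨c, rfl⟩ := (hts O).surj b
      exact ⟨Sigma.ι (fun O => (T' O).left) O c,
        ((sigma_desc_apply (fun O => (t O ≫ i O).left) O c).trans (Scheme.Hom.comp_apply _ _ _)).trans hb⟩
    · refine sigma_hom_ext T' fun O => ?_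
      rw [← Functor.map_comp_assoc, ← Functor.map_comp_assoc]
      rw [show (Over.homMk (Sigma.ι (fun O => (T' O).left) O) (by simp) : T' O ⟶ Over.mk (Sigma.desc fun O => (T' O).hom)) ≫
        Over.homMk (Sigma.desc fun O => (pre (z O) ≫ ιV O).left) (Sigma.hom_ext _ _ fun O => by simp) = pre (z O) ≫ ιV O by
          ext1; simp]
      rw [show (Over.homMk (Sigma.ι (fun O => (T' O).left) O) (by simp) : T' O ⟶ Over.mk (Sigma.desc fun O => (T' O).hom)) ≫
        Over.homMk (Sigma.desc fun O => (t O ≫ i O).left) (Sigma.hom_ext _ _ fun O => by simp) = t O ≫ i O by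
          ext1; simp]
      have := congrArg (· ≫ pullback.fst _ _) (sq O).w
      simp only [Category.assoc, pullback.lift_fst] at this
      rw [Functor.map_comp_assoc, map_pre, hw, hwO, this, Functor.map_comp, Category.assoc]
    · ext1
      refine Sigma.hom_ext _ _ fun O => ?_
      have h2 := congrArg (· ≫ pullback.snd _ _) (sq O).w
      simp only [Category.assoc, pullback.lift_snd] at h2
      have h3 : pre (z O) ≫ qO O = t O ≫ l O := (yon S).map_injective (by
        rw [Functor.map_comp, map_pre, map_pre, Functor.map_comp, h2])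
      simp only [Over.comp_left, Over.homMk_left, Sigma.ι_desc_assoc]
      rw [← Over.comp_left, ← Over.comp_left, Category.assoc, hιq, reassoc_of% h3, hl, ← Category.assoc]
      rfl

/-- Kernels of covers over two charts agree on a common flat chart. -/
theorem comap_ker_eq {U₁ U₂ W₁ W₂ R : Over S} {p₁ : (yon S).obj U₁ ⟶ Y} {p₂ : (yon S).obj U₂ ⟶ Y}
    {w₁ : (yon S).obj W₁ ⟶ X} {w₂ : (yon S).obj W₂ ⟶ X} {q₁ : W₁ ⟶ U₁} {q₂ : W₂ ⟶ U₂}
    (h₁ : IsBCCover f p₁ w₁ q₁) (h₂ : IsBCCover f p₂ w₂ q₂) [QuasiCompact q₁.left] [QuasiCompact q₂.left]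
    (g₁ : R ⟶ U₁) (g₂ : R ⟶ U₂) [Flat g₁.left] [Flat g₂.left]
    (hg : (yon S).map g₁ ≫ p₁ = (yon S).map g₂ ≫ p₂) : q₁.left.ker.comap g₁.left = q₂.left.ker.comap g₂.left := by
  have e₁ := facCond_iff (h₁.bc g₁)
  have e₂ := facCond_iff (h₂.bc g₂)
  rw [← hg] at e₂
  have k₁ : (pullback.snd q₁ g₁).left.ker = q₁.left.ker.comap g₁.left :=
    ker_of_isPullback_flat ((IsPullback.of_hasPullback q₁ g₁).map (Over.forget S))
  have k₂ : (pullback.snd q₂ g₂).left.ker = q₂.left.ker.comap g₂.left :=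
    ker_of_isPullback_flat ((IsPullback.of_hasPullback q₂ g₂).map (Over.forget S))
  rw [← k₁, ← k₂]
  exact le_antisymm ((e₂ _).1 ((e₁ _).2 le_rfl)) ((e₁ _).1 ((e₂ _).2 le_rfl))

/-- On a flat chart the scheme theoretic image is cut out by the kernel of any quasi-compact cover. -/
theorem factor_iff_ker (hX : IsAlgSpace X) (hY : IsAlgSpace Y) (hq : IsQuasiCompactMor f) {Z : Sp S} {i : Z ⟶ Y}
    (hZ : IsAlgSpace Z) (hi : IsSchImage f i) {U' W' : Over S} {p' : (yon S).obj U' ⟶ Y} {w' : (yon S).obj W' ⟶ X}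
    {q' : W' ⟶ U'} (h' : IsBCCover f p' w' q') [QuasiCompact q'.left]
    (hflat : ∀ ⦃U : Over S⦄ (p : (yon S).obj U ⟶ Y), RepWith @Etale p → ∀ (R : Over S) (g' : R ⟶ U') (g : R ⟶ U),
      IsPullback ((yon S).map g') ((yon S).map g) p' p → Flat g.left)
    {T : Over S} (u : T ⟶ U') : (∃ m, m ≫ i = (yon S).map u ≫ p') ↔ q'.left.ker ≤ u.left.ker := by
  obtain ⟨U, W, p, w, q, hp, hps, hqc, h⟩ := exists_qc_cover hX hY hq
  haveI := hqc
  haveI := AlgSpLimit.mono_closed hi.1
  obtain ⟨R, fst, g', sR⟩ := exists_sq hp.1 p'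
  let g : R ⟶ U := pre fst
  have hg : IsPullback ((yon S).map g) ((yon S).map g') p p' := by rw [map_pre]; exact sR
  haveI : Etale g'.left := hp.2 p' fst g' sR
  haveI : Surjective g'.left := hps.2 p' fst g' sR
  haveI : Flat g.left := hflat p hp R g' g hg.flip
  have he := comap_ker_eq h' h g' g hg.w.symm
  obtain ⟨qZ, sZ⟩ := exists_chart_schImage hX hY hp hps hZ hi
  have keyU : ∀ {T : Over S} (v : T ⟶ U), (∃ m, m ≫ i = (yon S).map v ≫ p) ↔ q.left.ker ≤ v.left.ker := fun {T} v => by
    rw [← maxIdeal_eq_ker hY hp h, ← (maxIdeal f p).ker_subschemeι, ← exists_factor_iff_ker]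
    constructor
    · rintro ⟨m, hm⟩
      let l := sZ.lift m ((yon S).map v) hm
      refine ⟨(pre l).left, ?_⟩
      have : pre l ≫ Over.homMk (maxIdeal f p).subschemeι rfl = v :=
        (yon S).map_injective (by rw [Functor.map_comp, map_pre, sZ.lift_snd])
      exact congrArg CommaMorphism.left this
    · rintro ⟨m, hm⟩
      let m' : T ⟶ Over.mk ((maxIdeal f p).subschemeι ≫ U.hom) := Over.homMk m (by
        show m ≫ _ ≫ U.hom = _
        rw [reassoc_of% hm, Over.w])
      refine ⟨(yon S).map m' ≫ qZ, ?_⟩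
      rw [Category.assoc, sZ.w, ← Functor.map_comp_assoc]
      congr 2
      ext1; exact hm
  let t : pullback u g' ⟶ T := pullback.fst u g'
  let l : pullback u g' ⟶ R := pullback.snd u g'
  have st := (IsPullback.of_hasPullback u g').map (Over.forget S)
  haveI : Etale t.left := MorphismProperty.of_isPullback st.flip ‹Etale g'.left›
  haveI : Surjective t.left := MorphismProperty.of_isPullback st.flip ‹Surjective g'.left›
  have htu : t ≫ u = l ≫ g' := pullback.condition
  have hw : (yon S).map t ≫ (yon S).map u ≫ p' = (yon S).map (l ≫ g) ≫ p := by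
    rw [← Functor.map_comp_assoc, htu, Functor.map_comp, Functor.map_comp, Category.assoc, Category.assoc, hg.w]
  have h1 : (∃ m, m ≫ i = (yon S).map u ≫ p') ↔ ∃ m, m ≫ i = (yon S).map (l ≫ g) ≫ p := by
    refine ⟨fun ⟨m, hm⟩ => ⟨(yon S).map t ≫ m, by rw [Category.assoc, hm, hw]⟩, fun ⟨m, hm⟩ => ?_⟩
    exact exists_factor_of_atlas ((repWith_yon_map_iff _ t).2 inferInstance) ((repWith_yon_map_iff _ t).2 inferInstance)
      _ i ⟨m, hm.trans hw.symm⟩
  rw [h1, keyU, Over.comp_left, Scheme.Hom.ker_comp, Scheme.IdealSheafData.le_map_iff_comap_le, ← he,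
    ← Scheme.IdealSheafData.le_map_iff_comap_le, ← Scheme.Hom.ker_comp, ← Over.comp_left, ← htu, Over.comp_left]
  exact ⟨le_ker_of_cover _ t.left u.left, fun hle => hle.trans (Scheme.Hom.le_ker_comp _ _)⟩

/-- A closed subspace cut out on an atlas by the kernel of a quasi-compact cover is the scheme theoretic image. -/
theorem isSchImage_of_factor_iff (hX : IsAlgSpace X) (hY : IsAlgSpace Y) (hp : RepWith @Etale p)
    (hps : RepWith @Surjective p) (h : IsBCCover f p w q) [QuasiCompact q.left] {Z : Sp S} {i : Z ⟶ Y}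
    (hZ : IsAlgSpace Z) (hi : RepWith @IsClosedImmersion i) (hf : ∃ f', f' ≫ i = f)
    (hK : ∀ {T : Over S} (u : T ⟶ U), (∃ m, m ≫ i = (yon S).map u ≫ p) ↔ q.left.ker ≤ u.left.ker) :
    IsSchImage f i := by
  refine ⟨hi, hf, fun Z' i' hZ' hi' hf' => ?_⟩
  have hc := compat_ker hY hp h
  have him := isSchImage_closedIncl hX hY hp hps hc ((facCond_iff h _).2 le_rfl)
    (fun K' _ h₂ => (facCond_iff h _).1 h₂)
  obtain ⟨g, hg⟩ := him.2.2 i' hZ' hi' hf'
  obtain ⟨g₀, hg₀⟩ := (exists_factor_closedIncl_iff (f := i) hZ q.left.ker).2 (fun T u x hx => (hK u).1 ⟨x, hx⟩)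
  exact ⟨g₀ ≫ g, by rw [Category.assoc, hg, hg₀]⟩

end

end Groth.Agent.AlgSpImage
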