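import Groth.Agent.AlgSpImage.Main
import Groth.Agent.AlgSpLimit.ClosureLimit
import Groth.Agent.SchImageLib.Reduced
import Groth.Agent.RedSepLib.Reduced

/-!
# Scheme theoretic images of morphisms from reduced spaces
-/

set_option autoImplicit false
set_option backward.isDefEq.respectTransparency false
set_option linter.style.haveILetI false

universe u

open CategoryTheory CategoryTheory.Limits AlgebraicGeometry Opposite

namespace Groth.Agent.AlgSpImage

open _root_.AlgSp Groth.Agent.AlgSpc

noncomputable section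

variable {S : Scheme.{u}} {X Y Z : Sp S} {f : X ⟶ Y} {i : Z ⟶ Y}

theorem comap_vanishingIdeal {R U : Scheme.{u}} (g : R ⟶ U) [Etale g] (C : TopologicalSpace.Closeds U) :
    ((Scheme.IdealSheafData.vanishingIdeal C).comap g : R.IdealSheafData) =
      Scheme.IdealSheafData.vanishingIdeal ⟨g ⁻¹' (C : Set U), C.isClosed.preimage g.continuous⟩ := by
  haveI := RedSepLib.isReduced_vanishingIdeal C
  let π := pullback.fst g (Scheme.IdealSheafData.vanishingIdeal C).subschemeι
  haveI : Etale (pullback.snd g (Scheme.IdealSheafData.vanishingIdeal C).subschemeι) :=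
    MorphismProperty.pullback_snd _ _ inferInstance
  haveI := SmoothReduced.isReduced_of_smooth_scheme (pullback.snd g (Scheme.IdealSheafData.vanishingIdeal C).subschemeι)
  show π.ker = _
  rw [SchImageLib.ker_eq_vanishingIdeal π]
  congr 1
  ext1
  show closure (Set.range π) = g ⁻¹' (C : Set U)
  rw [Scheme.Pullback.range_fst, Scheme.IdealSheafData.range_subschemeι,
    Scheme.IdealSheafData.coe_support_vanishingIdeal]
  exact (C.isClosed.preimage g.continuous).closure_eq

set_option maxHeartbeats 600000 in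
/-- Closed sets of points carry a reduced induced structure. -/
theorem exists_redInduced (hY : IsAlgSpace Y) {C : Set (Points Y)} (hC : IsClosed C) :
    ∃ (Z : Sp S) (i : Z ⟶ Y), IsAlgSpace Z ∧ IsRedInduced C i := by
  obtain ⟨U, p, hp, hps⟩ := hY.atlas
  let C' : TopologicalSpace.Closeds U.left := ⟨Points.ofPt p ⁻¹' C, hC.preimage (Points.continuous_ofPt p)⟩
  let K := Scheme.IdealSheafData.vanishingIdeal C'
  have hK : Compat p K := by
    intro T a b hab ha
    obtain ⟨R, fst, pr₂, sR⟩ := exists_sq hp.1 p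
    let pr₁ : R ⟶ U := pre fst
    haveI : Etale pr₂.left := hp.2 p fst pr₂ sR
    haveI : Etale pr₁.left := by
      have s' : IsPullback ((yon S).map pr₂) ((yon S).map pr₁) p p := by rw [map_pre]; exact sR.flip
      exact hp.2 p _ pr₁ s'
    let l : T ⟶ R := (yon S).preimage (sR.lift ((yon S).map a) ((yon S).map b) hab)
    have hl₁ : l ≫ pr₁ = a := (yon S).map_injective (by rw [Functor.map_comp, map_pre, Functor.map_preimage, IsPullback.lift_fst])
    have hl₂ : l ≫ pr₂ = b := (yon S).map_injective (by simp [l])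
    have he : K.comap pr₁.left = K.comap pr₂.left := by
      rw [comap_vanishingIdeal, comap_vanishingIdeal]
      congr 1
      ext r
      show Points.ofPt p (pr₁.left r) ∈ C ↔ Points.ofPt p (pr₂.left r) ∈ C
      rw [← ofPt_comp, ← ofPt_comp, map_pre, sR.w]
    rw [← hl₂, Over.comp_left, Scheme.Hom.ker_comp, Scheme.IdealSheafData.le_map_iff_comap_le, ← he,
      ← Scheme.IdealSheafData.le_map_iff_comap_le, ← Scheme.Hom.ker_comp, ← Over.comp_left, hl₁]
    exact ha
  obtain ⟨q, sq⟩ := exists_chart_closedIncl hK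
  refine ⟨_, closedIncl p K, isAlgSpace_closedSheaf hY hp hps hK, repWith_closedIncl hY hp hps hK, ?_,
    ⟨_, q, repWith_of_isPullback sq.flip hp, repWith_of_isPullback sq.flip hps,
      RedSepLib.isReduced_vanishingIdeal C'⟩⟩
  have hr : Set.range K.subschemeι = Points.ofPt p ⁻¹' C := by
    rw [Scheme.IdealSheafData.range_subschemeι, Scheme.IdealSheafData.coe_support_vanishingIdeal]
    rfl
  ext x
  constructor
  · rintro ⟨z, rfl⟩
    obtain ⟨y, hy⟩ := surjective_ofPt hps (Points.map (closedIncl p K) z)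
    obtain ⟨v, -, hv⟩ := exists_point_of_isPullback sq z (Points.ofScheme U y)
      (by rw [← Points.ofPt_eq_map_ofScheme]; exact hy.symm)
    have := hr.subset (mem_range_of_map_eq _ v y hv)
    rw [← hy]; exact this
  · intro hx
    obtain ⟨y, rfl⟩ := surjective_ofPt hps x
    obtain ⟨v, hv⟩ := hr.ge hx
    exact ⟨Points.ofPt q v, (map_ofPt_sq sq.w v).trans (congrArg _ hv)⟩

/-- A reduced induced structure on the closure of the image is the scheme theoretic image. -/
theorem isSchImage_of_redInduced (hX : IsReducedSp X) (hi : IsRedInduced (closure (Set.range (Points.map f))) i) :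
    IsSchImage f i := by
  refine ⟨hi.1, AlgSpLimit.exists_factor_closed hX f i hi.1 (by rw [hi.2.1]; exact subset_closure),
    fun Z' i' hZ' hi' hf' => AlgSpLimit.exists_factor_closed hi.2.2 i i' hi' ?_⟩
  rw [hi.2.1]
  refine closure_minimal ?_ (isClosedMap_map_of_repWith (fun _ _ k (hk : IsClosedImmersion k) => k.isClosedEmbedding.isClosedMap) hi').isClosed_range
  obtain ⟨f'', rfl⟩ := hf'
  rintro _ ⟨x, rfl⟩
  exact ⟨Points.map f'' x, (Points.map_comp _ _ _).symm⟩

/-- The scheme theoretic image of a reduced space is the reduced closure of the image. -/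
theorem isRedInduced_schImage (hY : IsAlgSpace Y) (hX : IsReducedSp X) (hZ : IsAlgSpace Z) (hi : IsSchImage f i) :
    IsRedInduced (closure (Set.range (Points.map f))) i := by
  obtain ⟨Z', i', hZ', h'⟩ := exists_redInduced hY (isClosed_closure (s := Set.range (Points.map f)))
  obtain ⟨e, he⟩ := exists_iso_schImage hZ hZ' hi (isSchImage_of_redInduced hX h')
  refine ⟨hi.1, ?_, ?_⟩
  · rw [← h'.2.1, ← he]
    ext x
    constructor
    · rintro ⟨z, rfl⟩; exact ⟨Points.map e.hom z, (Points.map_comp _ _ _).symm⟩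
    · rintro ⟨z, rfl⟩
      exact ⟨Points.map e.inv z, by rw [← Points.map_comp, e.inv_hom_id_assoc]⟩
  · obtain ⟨U, p, hp, hps, hU⟩ := h'.2.2
    exact ⟨U, p ≫ e.inv, repWith_comp hp (repWith_iso _), repWith_comp hps (repWith_iso _), hU⟩

/-- Etale morphisms are open on points. -/
theorem isOpenMap_of_isEtaleMor {V : Sp S} (hV : IsAlgSpace V) {b : V ⟶ Y} (hb : IsEtaleMor b) :
    IsOpenMap (Points.map b) := by
  obtain ⟨U, a, ha, has⟩ := hV.atlas
  intro O hO
  have h : Points.map b '' O = Points.ofPt (a ≫ b) '' (Points.ofPt a ⁻¹' O) := by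
    ext y
    constructor
    · rintro ⟨x, hx, rfl⟩
      obtain ⟨u, rfl⟩ := surjective_ofPt has x
      exact ⟨u, hx, (Points.map_ofPt a b u).symm⟩
    · rintro ⟨u, hu, rfl⟩
      exact ⟨_, hu, Points.map_ofPt a b u⟩
  rw [h]
  exact isOpenMap_ofPt (hb a ha) _ (hO.preimage (Points.continuous_ofPt a))

/-- Reducedness ascends along etale morphisms. -/
theorem isReducedSp_of_isEtaleMor {V : Sp S} (hV : IsAlgSpace V) (hY : IsAlgSpace Y) (hr : IsReducedSp Y) {b : V ⟶ Y}
    (hb : IsEtaleMor b) : IsReducedSp V := by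
  obtain ⟨U, a, ha, has⟩ := hV.atlas
  exact ⟨U, a, ha, has, AlgSpLimit.isReduced_chart hY hr (hb a ha)⟩

/-- Scheme theoretic images of reduced spaces commute with etale base change. -/
theorem isSchImage_etale_bc (hXa : IsAlgSpace X) (hY : IsAlgSpace Y) (hX : IsReducedSp X) (hZ : IsAlgSpace Z)
    (hi : IsSchImage f i) {Y' X' Z' : Sp S} (hY' : IsAlgSpace Y') (hX' : IsAlgSpace X') (hZ' : IsAlgSpace Z')
    {h : Y' ⟶ Y} (hh : IsEtaleMor h) {f₁ : X' ⟶ X} {f' : X' ⟶ Y'} (sqX : IsPullback f₁ f' f h)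
    {i₁ : Z' ⟶ Z} {i' : Z' ⟶ Y'} (sqZ : IsPullback i₁ i' i h) : IsSchImage f' i' := by
  have hr := isRedInduced_schImage hY hX hZ hi
  have hl := (isEtaleMor_iff_locP hY' hY).1 hh
  have he₁ : IsEtaleMor i₁ := (isEtaleMor_iff_locP hZ' hZ).2 (locP_base_change hY' hY hZ sqZ.flip hl)
  have hf₁ : IsEtaleMor f₁ := (isEtaleMor_iff_locP hX' hXa).2 (locP_base_change hY' hY hXa sqX.flip hl)
  refine isSchImage_of_redInduced (isReducedSp_of_isEtaleMor hX' hXa hX hf₁)
    ⟨repWith_of_isPullback sqZ hi.1, ?_, isReducedSp_of_isEtaleMor hZ' hZ hr.2.2 he₁⟩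
  have hpre : ∀ {A A' : Sp S} {a : A ⟶ Y} {a₁ : A' ⟶ A} {a' : A' ⟶ Y'}, IsPullback a₁ a' a h →
      Set.range (Points.map a') = Points.map h ⁻¹' Set.range (Points.map a) := fun {A A' a a₁ a'} sq => by
    ext y
    constructor
    · rintro ⟨x, rfl⟩
      exact ⟨Points.map a₁ x, by rw [← Points.map_comp, ← Points.map_comp, sq.w]⟩
    · rintro ⟨x, hx⟩
      obtain ⟨z, -, hz⟩ := exists_point_of_isPullback sq x y hx
      exact ⟨z, hz⟩
  rw [hpre sqZ, hpre sqX, hr.2.1]
  exact (isOpenMap_of_isEtaleMor hY' hh).preimage_closure_eq_closure_preimage (Points.continuous_map h) _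

end

end Groth.Agent.AlgSpImage
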